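import Groth.Agent.Sga7.H744.CohConst
import Groth.Agent.Etcore.HpullEq
import Groth.Agent.Etrest.IsoInv

/-!
# Functoriality of `hc`

`hc f M q : H^q(Y, M) →+ H^q(X, M)`, the same map as `CohConst.Hc` with short instances (see
`Etcore.EtInst`): `hc_comp`, `hc_id`.
-/

set_option autoImplicit false
set_option backward.isDefEq.respectTransparency.types false
universe u

open CategoryTheory CategoryTheory.Limits AlgebraicGeometry Opposite CategoryTheory.Abelian
open scoped Groth.Agent.Etcore.EtInst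

namespace Groth.Agent.Sga7.H744.HcFun

open Groth.Agent.Etcore.EtInst Groth.Agent.Etcore.HpullCalc

variable {X Y Z : Scheme.{u}}

instance preserves_pull (f : X ⟶ Y) : PreservesFiniteLimits (EtCoh.pull f) :=
  Groth.Agent.S0101.result f

/-- The pullback map on cohomology with constant coefficients (short instances). -/
noncomputable def hc (f : X ⟶ Y) (M : Type) [AddCommGroup M] (q : ℕ) :
    HH Y (EtCoh.const Y M) q →+ HH X (EtCoh.const X M) q :=
  (HHmap (EtCore.pullConst f M).hom q).comp (hp f (EtCoh.const Y M) q)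

theorem hc_apply (f : X ⟶ Y) (M : Type) [AddCommGroup M] (q : ℕ) (x : HH Y (EtCoh.const Y M) q) :
    hc f M q x = HHmap (EtCore.pullConst f M).hom q (hp f (EtCoh.const Y M) q x) := rfl

/-- The cocycle condition for `pullConst`. -/
theorem pullConst_comp (f : X ⟶ Y) (g : Y ⟶ Z) (M : Type) [AddCommGroup M] :
    (EtCore.pullComp f g).hom.app (EtCoh.const Z M) ≫
      (EtCoh.pull f).map (EtCore.pullConst g M).hom ≫ (EtCore.pullConst f M).hom =
      (EtCore.pullConst (f ≫ g) M).hom := by
  have h : (EtCore.pullConst (f ≫ g) M).inv ≫ (EtCore.pullComp f g).hom.app _ =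
      (EtCore.pullConst f M).inv ≫ (EtCoh.pull f).map (EtCore.pullConst g M).inv :=
    pullConstIso_inv_comp f g (AddCommGrpCat.of (ULift.{u+1} M))
  rw [← cancel_epi (EtCore.pullConst (f ≫ g) M).inv, ← Category.assoc, h, Iso.inv_hom_id,
    Category.assoc, ← Functor.map_comp_assoc, Iso.inv_hom_id, CategoryTheory.Functor.map_id,
    Category.id_comp, Iso.inv_hom_id]

theorem hc_comp (f : X ⟶ Y) (g : Y ⟶ Z) (M : Type) [AddCommGroup M] (q : ℕ)
    (x : HH Z (EtCoh.const Z M) q) :
    hc (f ≫ g) M q x = hc f M q (hc g M q x) := by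
  rw [hc_apply, hc_apply, hc_apply, hp_map, hp_comp, ← HHmap_comp, ← HHmap_comp,
    ← pullConst_comp f g M]

theorem hc_comp' {f : X ⟶ Y} {g : Y ⟶ Z} {h : X ⟶ Z} (e : f ≫ g = h) (M : Type) [AddCommGroup M]
    (q : ℕ) (x : HH Z (EtCoh.const Z M) q) : hc f M q (hc g M q x) = hc h M q x := by
  subst e
  exact (hc_comp f g M q x).symm

theorem bijective_hp (f : X ⟶ Y) [IsIso f] (G : EtCoh.Ab Y) (q : ℕ) :
    Function.Bijective (hp f G q) :=
  (bijective_Hpull_iff f G q).1 (Etrest.IsoInv.bijective_Hpull f G q)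

theorem bijective_hc (f : X ⟶ Y) [IsIso f] (M : Type) [AddCommGroup M] (q : ℕ) :
    Function.Bijective (hc f M q) :=
  (HHmap_bijective (EtCore.pullConst f M).hom q).comp (bijective_hp f _ q)

theorem hc_id (M : Type) [AddCommGroup M] (q : ℕ) (x : HH X (EtCoh.const X M) q) :
    hc (𝟙 X) M q x = x :=
  (bijective_hc (𝟙 X) M q).1 (hc_comp' (Category.comp_id (𝟙 X)) M q x)

end Groth.Agent.Sga7.H744.HcFun
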