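import Mathlib.RingTheory.Ideal.Cotangent
import Mathlib.RingTheory.LocalRing.ResidueField.Basic
import Mathlib.AlgebraicGeometry.Scheme
import Mathlib.AlgebraicGeometry.Stalk
import Groth.Prelude.Def_Models

/-!
# Elements of local rings in strict normal crossings form

`IsSNCElt A t` : `t = u * ∏ f_i ^ a_i`, `u` a unit, `a_i ≥ 1`, the `f_i` part of a regular system of
parameters (classes in `m/m²` linearly independent).  `stalkElt p x r` is the image of `r : R` in the
local ring of `X` at `x`, for `p : X ⟶ Spec R`.
-/

set_option autoImplicit false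
universe u

open CategoryTheory AlgebraicGeometry

namespace Groth.Agent.Sga7.H744.Defs

/-- `t` is in strict normal crossings form in the local ring `A`. -/
def IsSNCElt (A : Type u) [CommRing A] [IsLocalRing A] (t : A) : Prop :=
  ∃ (r : ℕ) (f : Fin r → A) (hf : ∀ i, f i ∈ IsLocalRing.maximalIdeal A) (a : Fin r → ℕ) (u : Aˣ),
    (∀ i, 1 ≤ a i) ∧
    LinearIndependent (IsLocalRing.ResidueField A)
      (fun i => (IsLocalRing.maximalIdeal A).toCotangent ⟨f i, hf i⟩) ∧
    t = u * ∏ i, f i ^ a i

/-- The ring map `R → O_{X,x}` for `p : X ⟶ Spec R`. -/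
noncomputable def stalkElt {R : Type u} [CommRing R] {X : Scheme.{u}}
    (p : X ⟶ Spec (CommRingCat.of R)) (x : X) : R →+* X.presheaf.stalk x :=
  (X.presheaf.germ ⊤ x trivial).hom.comp (p.appTop.hom.comp (Scheme.ΓSpecIso (CommRingCat.of R)).inv.hom)

/-- The closed fibre of the model is a strict normal crossings divisor: at every point over the closed
point, a uniformizer of `R` is in strict normal crossings form. -/
def IsSNCModel {R : Type u} [CommRing R] [IsLocalRing R] {X : Scheme.{u}}
    (p : X ⟶ Spec (CommRingCat.of R)) : Prop :=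
  ∀ x : X, p x = IsLocalRing.closedPoint R → ∀ ϖ : R, Irreducible ϖ →
    IsSNCElt (X.presheaf.stalk x) (stalkElt p x ϖ)

end Groth.Agent.Sga7.H744.Defs
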