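import Groth.Agent.Sga7.H744.CohConst
import Groth.Agent.Sga7.H744.Defs
import Groth.Agent.EtpbcB.StrictLoc
import Groth.Prelude.Def_Curve
import Mathlib.RingTheory.RegularLocalRing.Defs
import Mathlib.FieldTheory.IntermediateField.Adjoin.Basic

/-!
# The inputs of the local monodromy theorem for curves, as propositions
-/

set_option autoImplicit false
universe u
open CategoryTheory CategoryTheory.Limits AlgebraicGeometry IsLocalRing

namespace Groth.Agent.Sga7.H744.Stmts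
open Groth.Agent.Sga7.H744.CohConst Groth.Agent.Sga7.H744.Defs
open Groth.Agent.EtpbcB.StrictLoc

/-- (SNC) embedded resolution of the closed fibre. -/
def SncStmt : Prop := ∀ (R : Type u) [CommRing R] [IsDomain R] [IsDiscreteValuationRing R] (C : Scheme.{u})
    (f : C ⟶ Spec (CommRingCat.of (FractionRing R))) (_ : Curve.IsSmoothProperCurve (FractionRing R) C f),
    ∃ (X : Scheme.{u}) (p : X ⟶ Spec (CommRingCat.of R)), Models.IsRegularProperModel R X p C f ∧ IsSNCModel p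

/-- (OSH) the strict localizations of an SNC model at geometric points of the closed fibre. -/
def OshStmt : Prop := ∀ (R : Type u) [CommRing R] [IsDomain R] [IsDiscreteValuationRing R] (C : Scheme.{u})
    (f : C ⟶ Spec (CommRingCat.of (FractionRing R))) (_ : Curve.IsSmoothProperCurve (FractionRing R) C f)
    (X : Scheme.{u}) (p : X ⟶ Spec (CommRingCat.of R)) (_ : Models.IsRegularProperModel R X p C f)
    (_ : IsSNCModel p) (ϖ : R) (_ : Irreducible ϖ),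
    ∃ N : ℕ, 0 < N ∧ ∀ (Ω : Type u) [Field Ω] [IsSepClosed Ω] (ξ : Spec (CommRingCat.of Ω) ⟶ X),
      p (ξ default) = closedPoint R →
      IsRegularLocalRing (Osh ξ) ∧ IsDomain (Osh ξ) ∧
      ∃ (φ : R →+* Osh ξ) (_ : IsLocalHom φ) (_ : toBase ξ ≫ p = Spec.map (CommRingCat.ofHom φ))
        (r : ℕ) (_ : 0 < r) (t : Fin r → Osh ξ) (hm : ∀ i, t i ∈ maximalIdeal (Osh ξ))
        (_ : LinearIndependent (ResidueField (Osh ξ)) (fun i => (maximalIdeal (Osh ξ)).toCotangent ⟨t i, hm i⟩))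
        (a : Fin r → ℕ) (_ : ∀ i, 1 ≤ a i) (v : (Osh ξ)ˣ), φ ϖ = v * ∏ i, t i ^ a i ∧ ∀ i, a i ∣ N

/-- (LOC) the tame local computation. -/
def LocStmt : Prop := ∀ {R : Type u} [CommRing R] [IsDomain R] [IsDiscreteValuationRing R] [HenselianLocalRing R]
    [IsSepClosed (ResidueField R)] {ϖ : R} (_ : Irreducible ϖ)
    {K : Type u} [Field K] [Algebra R K] [IsFractionRing R K]
    {L : Type u} [Field L] [Algebra K L] (y : L) (n : ℕ) (_ : IsUnit (n : R))
    (_ : y ^ n = algebraMap K L (algebraMap R K ϖ)) (_ : IntermediateField.adjoin K {y} = ⊤)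
    (A : Type u) [CommRing A] [IsRegularLocalRing A] [IsDomain A] [HenselianLocalRing A]
    [IsSepClosed (ResidueField A)] (φ : R →+* A) [IsLocalHom φ]
    (r : ℕ) (t : Fin r → A) (hm : ∀ i, t i ∈ maximalIdeal A)
    (_ : LinearIndependent (ResidueField A) (fun i => (maximalIdeal A).toCotangent ⟨t i, hm i⟩))
    (a : Fin r → ℕ) (_ : ∀ i, 1 ≤ a i) (v : Aˣ) (_ : φ ϖ = v * ∏ i, t i ^ a i) (i₀ : Fin r) (N : ℕ) (_ : a i₀ ∣ N)
    {W : Scheme.{u}} (g : W ⟶ Spec (CommRingCat.of A)) (h : W ⟶ Spec (CommRingCat.of L))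
    (_ : IsPullback h g (Spec.map (CommRingCat.ofHom ((algebraMap K L).comp (algebraMap R K))))
      (Spec.map (CommRingCat.ofHom φ)))
    (S : L ≃ₐ[K] L) (s : W ⟶ W) (_ : s ≫ g = g)
    (_ : s ≫ h = h ≫ Spec.map (CommRingCat.ofHom ((S ^ N : L ≃ₐ[K] L) : L →+* L)))
    (m : ℕ) (_ : IsUnit (m : R)) (q : ℕ) (_ : q ≤ 1),
    Hc s (ZMod m) q = AddMonoidHom.id _

/-- (FIN) classes come from `K(ϖ^{1/ℓ^s})`. -/
def FinStmt : Prop := ∀ (R K Ω : Type u) [CommRing R] [IsDomain R] [IsDiscreteValuationRing R] [HenselianLocalRing R]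
    [IsSepClosed (ResidueField R)] [Field K] [Algebra R K] [IsFractionRing R K] [Field Ω] [Algebra K Ω] [IsSepClosure K Ω]
    (ℓ : ℕ) (_ : ℓ.Prime) (_ : (ℓ : ResidueField R) ≠ 0) {C : Scheme.{u}} (f : C ⟶ Spec (CommRingCat.of K))
    [QuasiCompact f] [QuasiSeparated f]
    (_ : ∀ σ : Ω ≃ₐ[K] Ω, Hc (SGA7.twistAut Ω f σ) (ZMod ℓ) 1 = AddMonoidHom.id _) (ϖ : R) (_ : Irreducible ϖ)
    (ν : ℕ) (c : EtCoh.H (SGA7.bcField Ω f) (EtCoh.const _ (ZMod (ℓ ^ ν))) 1),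
    ∃ (s : ℕ) (y : Ω), y ^ (ℓ ^ s) = algebraMap K Ω (algebraMap R K ϖ) ∧
      ∃ c' : EtCoh.H (SGA7.bcField (IntermediateField.adjoin K {y}) f) (EtCoh.const _ (ZMod (ℓ ^ ν))) 1,
        Hc (pullback.map f (Spec.map (CommRingCat.ofHom (algebraMap K Ω))) f
          (Spec.map (CommRingCat.ofHom (algebraMap K (IntermediateField.adjoin K {y})))) (𝟙 C)
          (Spec.map (CommRingCat.ofHom (algebraMap (IntermediateField.adjoin K {y}) Ω))) (𝟙 _) (by simp)
          (by rw [← Spec.map_comp]; rfl)) (ZMod (ℓ ^ ν)) 1 c' = c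

/-- (GEN) finite schemes over a strictly henselian local ring have no `H¹`. -/
def GenStmt : Prop := ∀ (A : Type u) [CommRing A] [HenselianLocalRing A] [IsSepClosed (ResidueField A)]
    {W : Scheme.{u}} (g : W ⟶ Spec (CommRingCat.of A)) [IsFinite g] (M : Type) [AddCommGroup M],
    Subsingleton (EtCoh.H W (EtCoh.const W M) 1)

/-- (KUM) elements fixing a suitable finite extension are `N`-th powers on `K(ϖ^{1/ℓ^s})`. -/
def KumStmt : Prop := ∀ (R K Ω : Type u) [CommRing R] [IsDomain R] [IsDiscreteValuationRing R] [HenselianLocalRing R]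
    [IsSepClosed (ResidueField R)] [Field K] [Algebra R K] [IsFractionRing R K] [Field Ω] [Algebra K Ω] [IsSepClosure K Ω]
    (ℓ : ℕ) (_ : ℓ.Prime) (_ : (ℓ : ResidueField R) ≠ 0) (ϖ : R) (_ : Irreducible ϖ) (N : ℕ) (_ : 0 < N),
    ∃ E : IntermediateField K Ω, FiniteDimensional K E ∧
      ∀ (s : ℕ) (y : Ω), y ^ (ℓ ^ s) = algebraMap K Ω (algebraMap R K ϖ) → ∀ σ ∈ E.fixingSubgroup,
        ∃ S : IntermediateField.adjoin K {y} ≃ₐ[K] IntermediateField.adjoin K {y},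
          ∀ x : IntermediateField.adjoin K {y}, σ x = ((S ^ N) x : Ω)

/-- (CORE) the output: strictly henselian `R`, Galois trivial on `H¹(C_Ω, ℤ/ℓ)`. -/
def PScore : Prop := ∀ (R K Ω : Type u) [CommRing R] [IsDomain R] [IsDiscreteValuationRing R] [HenselianLocalRing R]
    [IsSepClosed (ResidueField R)] [Field K] [Algebra R K] [IsFractionRing R K] [Field Ω] [Algebra K Ω] [IsSepClosure K Ω]
    (ℓ : ℕ) (_ : ℓ.Prime) (_ : (ℓ : ResidueField R) ≠ 0) {C : Scheme.{u}} (f : C ⟶ Spec (CommRingCat.of K))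
    (_ : Curve.IsSmoothProperCurve K C f)
    (_ : ∀ σ : Ω ≃ₐ[K] Ω, Hc (SGA7.twistAut Ω f σ) (ZMod ℓ) 1 = AddMonoidHom.id _),
    ∃ E : IntermediateField K Ω, FiniteDimensional K E ∧ ∀ (ν : ℕ) (σ τ : Ω ≃ₐ[K] Ω),
      σ ∈ E.fixingSubgroup → τ ∈ E.fixingSubgroup →
      ∀ x, Hc (SGA7.twistAut Ω f τ) (ZMod (ℓ ^ ν)) 1 (Hc (SGA7.twistAut Ω f σ) (ZMod (ℓ ^ ν)) 1 x - x) =
        Hc (SGA7.twistAut Ω f σ) (ZMod (ℓ ^ ν)) 1 x - x

end Groth.Agent.Sga7.H744.Stmts
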