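import Groth.Prelude.Def_EtCore
import Groth.Prelude.Def_SGA7I
import Groth.Agent.S0101

/-!
# Functoriality of étale cohomology with constant coefficients

`Hc f M q : H^q(Y, M) →+ H^q(X, M)` for `f : X ⟶ Y`; `SGA7.cohAct Ω f σ M q = Hc (twistAut Ω f σ) M q`.
-/

set_option autoImplicit false
universe u

open CategoryTheory CategoryTheory.Limits AlgebraicGeometry

namespace Groth.Agent.Sga7.H744.CohConst

/-- The pullback map on cohomology with constant coefficients `M`. -/
noncomputable def Hc {X Y : Scheme.{u}} (f : X ⟶ Y) (M : Type) [AddCommGroup M] (q : ℕ) :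
    EtCoh.H Y (EtCoh.const Y M) q →+ EtCoh.H X (EtCoh.const X M) q :=
  haveI : PreservesFiniteLimits (EtCoh.pull f) := Groth.Agent.S0101.result f
  ((EtCoh.HF X q).map (EtCore.pullConst f M).hom).hom.comp (EtCore.Hpull f (EtCoh.const Y M) q)

theorem cohAct_eq {K : Type u} [Field K] (Ω : Type u) [Field Ω] [Algebra K Ω] {X : Scheme.{u}}
    (f : X ⟶ Spec (CommRingCat.of K)) (σ : Ω ≃ₐ[K] Ω) (M : Type) [AddCommGroup M] (q : ℕ)
    [PreservesFiniteLimits (EtCoh.pull (SGA7.twistAut Ω f σ))] :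
    SGA7.cohAct Ω f σ M q = Hc (SGA7.twistAut Ω f σ) M q := rfl

end Groth.Agent.Sga7.H744.CohConst
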