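import Groth.Agent.Sga7.H744.CohConst
import Groth.Agent.Sga7.H744.HcFun

/-!
# `Hc = hc` (conversion lemmas, slow in the kernel)
-/

set_option autoImplicit false
set_option backward.isDefEq.respectTransparency.types false
universe u

open CategoryTheory CategoryTheory.Limits AlgebraicGeometry Opposite CategoryTheory.Abelian

namespace Groth.Agent.Sga7.H744.HcEq

open Groth.Agent.Etcore.EtInst Groth.Agent.Etcore.HpullCalc
open Groth.Agent.Sga7.H744.HcFun Groth.Agent.Sga7.H744.CohConst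

variable {X Y Z : Scheme.{u}}

theorem Hc_apply (f : X ⟶ Y) (M : Type) [AddCommGroup M] (q : ℕ)
    (x : HH Y (EtCoh.const Y M) q) :
    @Eq (HH X (EtCoh.const X M) q) (Hc f M q x) (hc f M q x) := rfl

theorem hc_eq_of_Hc_eq_id (w : X ⟶ X) (M : Type) [AddCommGroup M] (q : ℕ)
    (h : Hc w M q = AddMonoidHom.id _) (x : HH X (EtCoh.const X M) q) : hc w M q x = x :=
  (Hc_apply w M q x).symm.trans (DFunLike.congr_fun h x)

theorem Hc_comp (f : X ⟶ Y) (g : Y ⟶ Z) (M : Type) [AddCommGroup M] (q : ℕ)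
    (x : EtCoh.H Z (EtCoh.const Z M) q) :
    Hc (f ≫ g) M q x = Hc f M q (Hc g M q x) := by
  have h1 := Hc_apply (f ≫ g) M q x
  have h2 := Hc_apply g M q x
  have h3 := Hc_apply f M q (Hc g M q x)
  have h4 := hc_comp f g M q x
  exact h1.trans (h4.trans ((congrArg (fun y => hc f M q y) h2.symm).trans h3.symm))

theorem Hc_id (M : Type) [AddCommGroup M] (q : ℕ) (x : EtCoh.H X (EtCoh.const X M) q) :
    Hc (𝟙 X) M q x = x := (Hc_apply (𝟙 X) M q x).trans (hc_id M q x)

theorem sub_eq (F : EtCoh.Ab X) (q : ℕ) (x y : EtCoh.H X F q) :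
    @Eq (EtCoh.H X F q) (x - y) (@HSub.hSub (HH X F q) (HH X F q) (HH X F q) instHSub x y) := rfl

/-- Transfer of `(t - 1)(s - 1) x = 0` from `hc` to `Hc`. -/
theorem Hc_of_hc (t s : X ⟶ X) (M : Type) [AddCommGroup M] (q : ℕ)
    (x : EtCoh.H X (EtCoh.const X M) q)
    (h : @Eq (HH X (EtCoh.const X M) q) (hc t M q (hc s M q x - x)) (hc s M q x - x)) :
    Hc t M q (Hc s M q x - x) = Hc s M q x - x := by
  have h1 : @Eq (HH X (EtCoh.const X M) q) (Hc s M q x - x : EtCoh.H X (EtCoh.const X M) q)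
      (hc s M q x - x) :=
    (sub_eq _ q (Hc s M q x) x).trans (congrArg (fun y : HH X (EtCoh.const X M) q => y - x)
      (Hc_apply s M q x))
  exact (Hc_apply t M q _).trans ((congrArg (fun y => hc t M q y) h1).trans (h.trans h1.symm))

end Groth.Agent.Sga7.H744.HcEq
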