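import Groth.Agent.Sga7.H744.CoreL

/-!
# The core statement: strictly henselian base, trivial action on `H¹(C_Ω, ℤ/ℓ)`
-/

set_option autoImplicit false
set_option backward.isDefEq.respectTransparency.types false
universe u

open CategoryTheory CategoryTheory.Limits AlgebraicGeometry Opposite IsLocalRing
open scoped Groth.Agent.Etcore.EtInst

namespace Groth.Agent.Sga7.H744.Core

open Groth.Agent.Etcore.EtInst Groth.Agent.Sga7.H744.CohConst
open Groth.Agent.Sga7.H744.HcFun Groth.Agent.Sga7.H744.HcEq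
open Groth.Agent.Sga7.H744.CoreL Groth.Agent.Sga7.H744.Stmts
open Groth.Agent.EtpbcB.StrictLoc

/-- The projection `C_Ω ⟶ C_L`. -/
noncomputable def proj {K Ω : Type u} [Field K] [Field Ω] [Algebra K Ω] (L : IntermediateField K Ω)
    {C : Scheme.{u}} (f : C ⟶ Spec (CommRingCat.of K)) : SGA7.bcField Ω f ⟶ SGA7.bcField L f :=
  pullback.map f (Spec.map (CommRingCat.ofHom (algebraMap K Ω))) f
    (Spec.map (CommRingCat.ofHom (algebraMap K L))) (𝟙 C)
    (Spec.map (CommRingCat.ofHom (algebraMap L Ω))) (𝟙 _) (by simp)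
    (by rw [← Spec.map_comp]; rfl)

theorem proj_fst {K Ω : Type u} [Field K] [Field Ω] [Algebra K Ω] (L : IntermediateField K Ω)
    {C : Scheme.{u}} (f : C ⟶ Spec (CommRingCat.of K)) :
    proj L f ≫ pullback.fst f (Spec.map (CommRingCat.ofHom (algebraMap K L))) =
      pullback.fst f (Spec.map (CommRingCat.ofHom (algebraMap K Ω))) := by
  rw [proj, pullback.lift_fst, Category.comp_id]

theorem proj_snd {K Ω : Type u} [Field K] [Field Ω] [Algebra K Ω] (L : IntermediateField K Ω)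
    {C : Scheme.{u}} (f : C ⟶ Spec (CommRingCat.of K)) :
    proj L f ≫ pullback.snd f (Spec.map (CommRingCat.ofHom (algebraMap K L))) =
      pullback.snd f (Spec.map (CommRingCat.ofHom (algebraMap K Ω))) ≫
        Spec.map (CommRingCat.ofHom (algebraMap L Ω)) := by
  rw [proj, pullback.lift_snd]

theorem twistAut_proj {K Ω : Type u} [Field K] [Field Ω] [Algebra K Ω] (L : IntermediateField K Ω)
    {C : Scheme.{u}} (f : C ⟶ Spec (CommRingCat.of K)) (σ : Ω ≃ₐ[K] Ω) (S : L ≃ₐ[K] L)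
    (h : ∀ x : L, σ x = (S x : Ω)) :
    SGA7.twistAut Ω f σ ≫ proj L f = proj L f ≫ SGA7.twistAut L f S := by
  apply pullback.hom_ext
  · rw [Category.assoc, Category.assoc, twistAut_fst, proj_fst, twistAut_fst]
  · rw [Category.assoc, Category.assoc, twistAut_snd, proj_snd, ← Category.assoc, twistAut_snd,
      ← Category.assoc, proj_snd, Category.assoc, Category.assoc, ← Spec.map_comp, ← Spec.map_comp,
      ← CommRingCat.ofHom_comp, ← CommRingCat.ofHom_comp]
    congr 3
    ext x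
    exact h x

theorem adjoin_gen_eq_top {K Ω : Type u} [Field K] [Field Ω] [Algebra K Ω] (y : Ω) :
    IntermediateField.adjoin K
      {(⟨y, IntermediateField.mem_adjoin_simple_self K y⟩ : IntermediateField.adjoin K {y})} = ⊤ := by
  apply IntermediateField.map_injective (IntermediateField.adjoin K {y}).val
  rw [IntermediateField.adjoin_map, Set.image_singleton]
  rw [← AlgHom.fieldRange_eq_map, IntermediateField.fieldRange_val]
  rfl

/-- Transport of a smooth proper curve to `FractionRing R`. -/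
theorem isSmoothProperCurve_comp {K K' : Type u} [Field K] [Field K'] (e : K' ≃+* K)
    {C : Scheme.{u}} (f : C ⟶ Spec (CommRingCat.of K)) (hC : Curve.IsSmoothProperCurve K C f) :
    Curve.IsSmoothProperCurve K' C (f ≫ Spec.map (CommRingCat.ofHom (e : K' →+* K))) := by
  obtain ⟨h1, h2, h3, h4⟩ := hC
  have : IsIso (CommRingCat.ofHom (e : K' →+* K)) := (RingEquiv.toCommRingCatIso e).isIso_hom
  exact ⟨inferInstance, inferInstance, h3, h4⟩

theorem isPullback_transport {R K : Type u} [CommRing R] [IsDomain R] [Field K] [Algebra R K]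
    [IsFractionRing R K] (e : FractionRing R ≃ₐ[R] K) {C X : Scheme.{u}}
    {f : C ⟶ Spec (CommRingCat.of K)} {g : C ⟶ X} {p : X ⟶ Spec (CommRingCat.of R)}
    (h : IsPullback g (f ≫ Spec.map (CommRingCat.ofHom (e : FractionRing R →+* K))) p
      (Spec.map (CommRingCat.ofHom (algebraMap R (FractionRing R))))) :
    IsPullback g f p (Spec.map (CommRingCat.ofHom (algebraMap R K))) := by
  have h1 : IsIso (CommRingCat.ofHom (e : FractionRing R →+* K)) :=
    (RingEquiv.toCommRingCatIso e.toRingEquiv).isIso_hom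
  have h2 : IsIso (Spec.map (CommRingCat.ofHom (e : FractionRing R →+* K))) := inferInstance
  refine IsPullback.of_iso h (Iso.refl _) (Iso.refl _)
    (asIso (Spec.map (CommRingCat.ofHom (e : FractionRing R →+* K)))).symm (Iso.refl _) ?_ ?_ ?_ ?_
  · simp
  · simp
  · simp
  · simp only [Iso.refl_hom, Category.comp_id, Iso.symm_hom, asIso_inv, IsIso.eq_inv_comp]
    rw [← Spec.map_comp, ← CommRingCat.ofHom_comp]
    congr 2
    ext x
    exact e.commutes x

/-- From `C_L` to `C_Ω`. -/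
theorem descend {K Ω : Type u} [Field K] [Field Ω] [Algebra K Ω] {L : IntermediateField K Ω}
    {C : Scheme.{u}} (f : C ⟶ Spec (CommRingCat.of K)) (σ τ : Ω ≃ₐ[K] Ω) (S T : L ≃ₐ[K] L)
    (hS : ∀ x : L, σ x = (S x : Ω)) (hT : ∀ x : L, τ x = (T x : Ω)) (M : Type) [AddCommGroup M]
    (c' : HH (SGA7.bcField L f) (EtCoh.const _ M) 1) (c : HH (SGA7.bcField Ω f) (EtCoh.const _ M) 1)
    (hc' : c = hc (proj L f) M 1 c')
    (key : hc (SGA7.twistAut L f T) M 1 (hc (SGA7.twistAut L f S) M 1 c' - c') =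
      hc (SGA7.twistAut L f S) M 1 c' - c') :
    hc (SGA7.twistAut Ω f τ) M 1 (hc (SGA7.twistAut Ω f σ) M 1 c - c) =
      hc (SGA7.twistAut Ω f σ) M 1 c - c := by
  subst hc'
  rw [hc_comp' (twistAut_proj L f σ S hS), hc_comp, ← map_sub,
    hc_comp' (twistAut_proj L f τ T hT), hc_comp, key]

/-- **The core theorem**, from its inputs. -/
theorem pscore (hsnc : SncStmt.{u}) (hosh : OshStmt.{u}) (hloc : LocStmt.{u}) (hfin : FinStmt.{u})
    (hgen : GenStmt.{u}) (hkum : KumStmt.{u}) : PScore.{u} := by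
  intro R K Ω _ _ _ _ _ _ _ _ _ _ _ ℓ hℓ hℓp C f hC htriv
  obtain ⟨ϖ, hϖ⟩ := IsDiscreteValuationRing.exists_irreducible R
  have hC' := isSmoothProperCurve_comp (FractionRing.algEquiv R K).toRingEquiv f hC
  obtain ⟨X, p, hX, hs⟩ := hsnc R C _ hC'
  obtain ⟨N, hN, ho⟩ := hosh R C _ hC' X p hX hs ϖ hϖ
  obtain ⟨⟨_, _, _, g, hg⟩, hp, _⟩ := hX
  have hg' : IsPullback g f p (Spec.map (CommRingCat.ofHom (algebraMap R K))) :=
    isPullback_transport (FractionRing.algEquiv R K) hg
  obtain ⟨E, hE, hk⟩ := hkum R K Ω ℓ hℓ hℓp ϖ hϖ N hN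
  have hℓR : IsUnit (ℓ : R) := by
    by_contra h
    apply hℓp
    have := (residue_eq_zero_iff (ℓ : R)).2 ((mem_maximalIdeal _).2 h)
    simpa using this
  have hpf : IsProper f := hC.1
  refine ⟨E, hE, fun ν σ τ hσ hτ c => ?_⟩
  obtain ⟨s, y, hy, c', hc'⟩ := hfin R K Ω ℓ hℓ hℓp f htriv ϖ hϖ ν c
  obtain ⟨S, hS⟩ := hk s y hy σ hσ
  obtain ⟨T, hT⟩ := hk s y hy τ hτ
  have hn : IsUnit ((ℓ ^ s : ℕ) : R) := by
    rw [Nat.cast_pow]
    exact hℓR.pow s
  have hm : IsUnit ((ℓ ^ ν : ℕ) : R) := by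
    rw [Nat.cast_pow]
    exact hℓR.pow ν
  have hne : NeZero (ℓ ^ ν) := ⟨pow_ne_zero _ hℓ.ne_zero⟩
  have hint : IsIntegral K y := by
    have : Algebra.IsAlgebraic K Ω := IsSepClosure.separable.isAlgebraic
    exact Algebra.IsIntegral.isIntegral y
  have hfd : FiniteDimensional K (IntermediateField.adjoin K {y}) :=
    IntermediateField.adjoin.finiteDimensional hint
  have key := coreL hloc hgen hϖ
    (⟨y, IntermediateField.mem_adjoin_simple_self K y⟩ : IntermediateField.adjoin K {y}) (ℓ ^ s) hn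
    (Subtype.ext hy) (adjoin_gen_eq_top y) hg' N (fun Ω' _ _ ξ hξ => ho Ω' ξ hξ) S T (ℓ ^ ν) hm c'
  exact Hc_of_hc _ _ _ 1 c (descend f σ τ (S ^ N) (T ^ N) hS hT (ZMod (ℓ ^ ν)) c' c
    (hc'.symm.trans (Hc_apply (proj (IntermediateField.adjoin K {y}) f) (ZMod (ℓ ^ ν)) 1 c')) key)

end Groth.Agent.Sga7.H744.Core
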