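import Groth.Agent.EtpbcB.StrictLoc
import Mathlib.RingTheory.DiscreteValuationRing.Basic

/-!
# Strict localizations away from the closed fibre

`p : X ⟶ Spec R`, `R` a discrete valuation ring, `ξ` a geometric point of `X`: the uniformizer is
invertible in `O^sh_{X,ξ}` unless `ξ` lies over the closed point.
-/

set_option autoImplicit false
universe u

open CategoryTheory CategoryTheory.Limits AlgebraicGeometry IsLocalRing

namespace Groth.Agent.Sga7.H744.GenPt

open Groth.Agent.EtpbcB.StrictLoc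

theorem exists_ringHom {R : Type u} [CommRing R] {X : Scheme.{u}} (p : X ⟶ Spec (CommRingCat.of R))
    {Ω : Type u} [Field Ω] [IsSepClosed Ω] (ξ : Spec (CommRingCat.of Ω) ⟶ X) :
    ∃ φ : R →+* Osh ξ, toBase ξ ≫ p = Spec.map (CommRingCat.ofHom φ) := by
  refine ⟨(Spec.preimage (toBase ξ ≫ p)).hom, ?_⟩
  rw [CommRingCat.ofHom_hom, Spec.map_preimage]

theorem isUnit_of_ne {R : Type u} [CommRing R] [IsDomain R] [IsDiscreteValuationRing R] {X : Scheme.{u}}
    (p : X ⟶ Spec (CommRingCat.of R)) {ϖ : R} (hϖ : Irreducible ϖ)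
    {Ω : Type u} [Field Ω] [IsSepClosed Ω] (ξ : Spec (CommRingCat.of Ω) ⟶ X)
    (hξ : p (ξ default) ≠ closedPoint R) (φ : R →+* Osh ξ)
    (hφ : toBase ξ ≫ p = Spec.map (CommRingCat.ofHom φ)) : IsUnit (φ ϖ) := by
  by_contra hn
  apply hξ
  have h1 : p (ξ default) = (Spec.map (CommRingCat.ofHom φ)) (closedPoint (Osh ξ)) := by
    have h2 : ξ default = toBase ξ (pt ξ default) := by
      rw [← Scheme.Hom.comp_apply, pt_toBase]
    rw [h2, pt_default, ← Scheme.Hom.comp_apply, hφ]
  rw [h1]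
  let y : PrimeSpectrum R := (Spec.map (CommRingCat.ofHom φ)) (closedPoint (Osh ξ))
  have h3 : (maximalIdeal R) ≤ y.asIdeal := by
    rw [hϖ.maximalIdeal_eq, Ideal.span_singleton_le_iff_mem]
    exact (mem_maximalIdeal _).2 hn
  exact PrimeSpectrum.ext ((maximalIdeal.isMaximal R).eq_of_le y.isPrime.ne_top h3).symm

end Groth.Agent.Sga7.H744.GenPt
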