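import Groth.Prelude.Def_SGA7I
import Groth.Agent.EtpbcB.StrictLoc
import Mathlib.AlgebraicGeometry.Morphisms.Finite
import Mathlib.AlgebraicGeometry.Morphisms.Preimmersion
import Mathlib.RingTheory.DiscreteValuationRing.Basic

/-!
# Local squares for `C_L → C → X`

`X` a model of `C/K` over `R`, `L/K` a field extension, `A → X` any morphism, `W = C_L ×_X A`:
`W = A ×_{Spec R} Spec L` (`localSquare`), and `W → A` is finite if `A → Spec R` lands in `Spec K` and
`L/K` is finite (`isFinite_of_unit`).
-/

set_option autoImplicit false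
universe u

open CategoryTheory CategoryTheory.Limits AlgebraicGeometry

namespace Groth.Agent.Sga7.H744.Geom

section square

variable {R K L : Type u} [CommRing R] [Field K] [Algebra R K] [Field L] [Algebra K L]
  {C X : Scheme.{u}} {f : C ⟶ Spec (CommRingCat.of K)} {g : C ⟶ X} {p : X ⟶ Spec (CommRingCat.of R)}

theorem modelSquare (hX : IsPullback g f p (Spec.map (CommRingCat.ofHom (algebraMap R K)))) :
    IsPullback (pullback.fst f (Spec.map (CommRingCat.ofHom (algebraMap K L))) ≫ g)
      (pullback.snd f (Spec.map (CommRingCat.ofHom (algebraMap K L)))) p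
      (Spec.map (CommRingCat.ofHom ((algebraMap K L).comp (algebraMap R K)))) := by
  have h := (IsPullback.of_hasPullback f
    (Spec.map (CommRingCat.ofHom (algebraMap K L)))).paste_horiz hX
  rwa [← Spec.map_comp] at h

theorem localSquare (hX : IsPullback g f p (Spec.map (CommRingCat.ofHom (algebraMap R K))))
    {A W : Scheme.{u}} (j : A ⟶ X) {a : W ⟶ SGA7.bcField L f} {b : W ⟶ A}
    (hsq : IsPullback a b (pullback.fst f (Spec.map (CommRingCat.ofHom (algebraMap K L))) ≫ g) j) :
    IsPullback (a ≫ pullback.snd f (Spec.map (CommRingCat.ofHom (algebraMap K L)))) b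
      (Spec.map (CommRingCat.ofHom ((algebraMap K L).comp (algebraMap R K)))) (j ≫ p) :=
  hsq.paste_horiz (modelSquare (L := L) hX).flip

end square

theorem of_mono_comp {A B D E S : Scheme.{u}} {h : A ⟶ B} {b : A ⟶ D} {u : B ⟶ E} {v : D ⟶ E}
    (m : E ⟶ S) [Mono m] (hsq : IsPullback h b (u ≫ m) (v ≫ m)) : IsPullback h b u v := by
  have w : h ≫ u = b ≫ v := by
    rw [← cancel_mono m, Category.assoc, Category.assoc]
    exact hsq.w
  refine ⟨⟨w⟩, ⟨PullbackCone.IsLimit.mk w
    (fun s => hsq.lift s.fst s.snd (by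
      rw [← Category.assoc, ← Category.assoc, s.condition])) ?_ ?_ ?_⟩⟩
  · intro s
    exact hsq.lift_fst _ _ _
  · intro s
    exact hsq.lift_snd _ _ _
  · intro s k h1 h2
    apply hsq.hom_ext
    · rw [h1, hsq.lift_fst]
    · rw [h2, hsq.lift_snd]

section generic

open IsLocalRing

/-- Over the locus where the uniformizer is invertible, `W → Spec A` is finite. -/
theorem isFinite_of_unit {R K L : Type u} [CommRing R] [IsDomain R] [IsDiscreteValuationRing R]
    {ϖ : R} (hϖ : Irreducible ϖ) [Field K] [Algebra R K] [IsFractionRing R K] [Field L] [Algebra K L]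
    [FiniteDimensional K L] {A : Type u} [CommRing A] (φ : R →+* A) (hu : IsUnit (φ ϖ))
    {W : Scheme.{u}} {b : W ⟶ Spec (CommRingCat.of A)} {h : W ⟶ Spec (CommRingCat.of L)}
    (hsq : IsPullback h b (Spec.map (CommRingCat.ofHom ((algebraMap K L).comp (algebraMap R K))))
      (Spec.map (CommRingCat.ofHom φ))) : IsFinite b := by
  have hunit : ∀ y : nonZeroDivisors R, IsUnit (φ y) := by
    intro y
    obtain ⟨n, v, hv⟩ := IsDiscreteValuationRing.eq_unit_mul_pow_irreducible
      (nonZeroDivisors.coe_ne_zero y) hϖ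
    rw [hv, map_mul, map_pow]
    exact (v.isUnit.map φ).mul (hu.pow n)
  let ψ : K →+* A := IsLocalization.lift (M := nonZeroDivisors R) hunit
  have hψ : ψ.comp (algebraMap R K) = φ := IsLocalization.lift_comp hunit
  have hp : IsPreimmersion (Spec.map (CommRingCat.ofHom (algebraMap R K))) :=
    IsPreimmersion.of_isLocalization (nonZeroDivisors R)
  have h1 : IsPullback h b (Spec.map (CommRingCat.ofHom (algebraMap K L)))
      (Spec.map (CommRingCat.ofHom ψ)) := by
    apply of_mono_comp (Spec.map (CommRingCat.ofHom (algebraMap R K)))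
    rw [← Spec.map_comp, ← Spec.map_comp, ← CommRingCat.ofHom_comp, ← CommRingCat.ofHom_comp, hψ]
    exact hsq
  have h2 : IsFinite (Spec.map (CommRingCat.ofHom (algebraMap K L))) := by
    rw [IsFinite.SpecMap_iff]
    rw [CommRingCat.hom_ofHom, RingHom.finite_algebraMap]
    infer_instance
  exact MorphismProperty.of_isPullback h1 h2

end generic

end Groth.Agent.Sga7.H744.Geom
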