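import Groth.Agent.Sga7.H744.Glob
import Groth.Agent.Sga7.H744.HcEq
import Groth.Agent.Sga7.H744.Geom
import Groth.Agent.Sga7.H744.GenPt
import Groth.Agent.Sga7.H744.Stmts

/-!
# The local monodromy theorem for curves over `L = K(ϖ^{1/n})`
-/

set_option autoImplicit false
set_option backward.isDefEq.respectTransparency.types false
universe u

open CategoryTheory CategoryTheory.Limits AlgebraicGeometry Opposite IsLocalRing
open scoped Groth.Agent.Etcore.EtInst

namespace Groth.Agent.Sga7.H744.CoreL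

open Groth.Agent.Etcore.EtInst Groth.Agent.Sga4B.ConstLC
open Groth.Agent.Sga7.H744.HcFun Groth.Agent.Sga7.H744.HcEq Groth.Agent.Sga7.H744.Geom
open Groth.Agent.Sga7.H744.GenPt Groth.Agent.Sga7.H744.Stmts
open Groth.Agent.EtpbcB.StrictLoc

/-- The conclusion of `OshStmt` at a geometric point. -/
def OshAt {R : Type u} [CommRing R] [IsDomain R] [IsDiscreteValuationRing R] {X : Scheme.{u}}
    (p : X ⟶ Spec (CommRingCat.of R)) (ϖ : R) (N : ℕ) {Ω : Type u} [Field Ω] [IsSepClosed Ω]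
    (ξ : Spec (CommRingCat.of Ω) ⟶ X) : Prop :=
  IsRegularLocalRing (Osh ξ) ∧ IsDomain (Osh ξ) ∧
      ∃ (φ : R →+* Osh ξ) (_ : IsLocalHom φ) (_ : toBase ξ ≫ p = Spec.map (CommRingCat.ofHom φ))
        (r : ℕ) (_ : 0 < r) (t : Fin r → Osh ξ) (hm : ∀ i, t i ∈ maximalIdeal (Osh ξ))
        (_ : LinearIndependent (ResidueField (Osh ξ)) (fun i => (maximalIdeal (Osh ξ)).toCotangent ⟨t i, hm i⟩))
        (a : Fin r → ℕ) (_ : ∀ i, 1 ≤ a i) (v : (Osh ξ)ˣ), φ ϖ = v * ∏ i, t i ^ a i ∧ ∀ i, a i ∣ N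

theorem twistAut_fst {K : Type u} [Field K] (L : Type u) [Field L] [Algebra K L] {C : Scheme.{u}}
    (f : C ⟶ Spec (CommRingCat.of K)) (S : L ≃ₐ[K] L) :
    SGA7.twistAut L f S ≫ pullback.fst f (Spec.map (CommRingCat.ofHom (algebraMap K L))) =
      pullback.fst f (Spec.map (CommRingCat.ofHom (algebraMap K L))) := by
  rw [SGA7.twistAut, pullback.lift_fst, Category.comp_id]

theorem twistAut_snd {K : Type u} [Field K] (L : Type u) [Field L] [Algebra K L] {C : Scheme.{u}}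
    (f : C ⟶ Spec (CommRingCat.of K)) (S : L ≃ₐ[K] L) :
    SGA7.twistAut L f S ≫ pullback.snd f (Spec.map (CommRingCat.ofHom (algebraMap K L))) =
      pullback.snd f (Spec.map (CommRingCat.ofHom (algebraMap K L))) ≫
        Spec.map (CommRingCat.ofHom (S : L →+* L)) := by
  rw [SGA7.twistAut, pullback.lift_snd]

section

variable {R K : Type u} [CommRing R] [IsDomain R] [IsDiscreteValuationRing R] [HenselianLocalRing R]
    [IsSepClosed (ResidueField R)] [Field K] [Algebra R K] [IsFractionRing R K]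

/-- The action on a strict localization at a point of the closed fibre. -/
theorem local_closed (hloc : LocStmt.{u}) {ϖ : R} (hϖ : Irreducible ϖ) {L : Type u} [Field L]
    [Algebra K L] (y : L) (n : ℕ) (hn : IsUnit (n : R))
    (hy : y ^ n = algebraMap K L (algebraMap R K ϖ)) (hL : IntermediateField.adjoin K {y} = ⊤)
    {C X : Scheme.{u}} {f : C ⟶ Spec (CommRingCat.of K)} {g : C ⟶ X}
    {p : X ⟶ Spec (CommRingCat.of R)}
    (hX : IsPullback g f p (Spec.map (CommRingCat.ofHom (algebraMap R K)))) (N : ℕ)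
    (S : L ≃ₐ[K] L) (m : ℕ) (hm : IsUnit (m : R)) (q : ℕ) (hq : q ≤ 1)
    {Ω : Type u} [Field Ω] [IsSepClosed Ω] (ξ : Spec (CommRingCat.of Ω) ⟶ X) (hξ : OshAt p ϖ N ξ)
    {W : Scheme.{u}} (a : W ⟶ SGA7.bcField L f) (b : W ⟶ Spec (Osh ξ))
    (hsq : IsPullback a b (pullback.fst f (Spec.map (CommRingCat.ofHom (algebraMap K L))) ≫ g)
      (toBase ξ)) (w : W ⟶ W) (hw1 : w ≫ a = a ≫ SGA7.twistAut L f (S ^ N)) (hw2 : w ≫ b = b)
    (x : HH W (EtCoh.const W (ZMod m)) q) : hc w (ZMod m) q x = x := by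
  obtain ⟨h1, h2, φ, h3, h4, r, hr, t, hmt, hli, e, he, v, hv, hN⟩ := hξ
  have h5 := localSquare (L := L) hX (toBase ξ) hsq
  rw [h4] at h5
  refine hc_eq_of_Hc_eq_id w (ZMod m) q ?_ x
  refine hloc hϖ y n hn hy hL (Osh ξ) φ r t hmt hli e he v hv ⟨0, hr⟩ N (hN _) b
    (a ≫ pullback.snd f (Spec.map (CommRingCat.ofHom (algebraMap K L)))) h5 S w hw2 ?_ m hm q hq
  rw [← Category.assoc, hw1, Category.assoc, twistAut_snd, Category.assoc]

/-- The action on a strict localization at a point of the generic fibre. -/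
theorem local_generic (hgen : GenStmt.{u}) {ϖ : R} (hϖ : Irreducible ϖ) {L : Type u} [Field L]
    [Algebra K L] [FiniteDimensional K L]
    {C X : Scheme.{u}} {f : C ⟶ Spec (CommRingCat.of K)} {g : C ⟶ X}
    {p : X ⟶ Spec (CommRingCat.of R)}
    (hX : IsPullback g f p (Spec.map (CommRingCat.ofHom (algebraMap R K))))
    (M : Type) [AddCommGroup M]
    {Ω : Type u} [Field Ω] [IsSepClosed Ω] (ξ : Spec (CommRingCat.of Ω) ⟶ X)
    (hξ : p (ξ default) ≠ closedPoint R)
    {W : Scheme.{u}} (a : W ⟶ SGA7.bcField L f) (b : W ⟶ Spec (Osh ξ))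
    (hsq : IsPullback a b (pullback.fst f (Spec.map (CommRingCat.ofHom (algebraMap K L))) ≫ g)
      (toBase ξ)) (x x' : HH W (EtCoh.const W M) 1) : x = x' := by
  obtain ⟨φ, hφ⟩ := exists_ringHom p ξ
  have h5 := localSquare (L := L) hX (toBase ξ) hsq
  rw [hφ] at h5
  have h6 : IsFinite b := isFinite_of_unit hϖ φ (isUnit_of_ne p hϖ ξ hξ φ hφ) h5
  have i1 : HenselianLocalRing (Osh ξ) := henselianLocalRing ξ
  have i2 : IsSepClosed (ResidueField (Osh ξ)) := isSepClosed_residueField ξ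
  have h7 : Subsingleton (HH W (EtCoh.const W M) 1) := @hgen (Osh ξ) _ i1 i2 W b h6 M _
  exact Subsingleton.elim _ _

/-- **The theorem over `L`**. -/
theorem coreL (hloc : LocStmt.{u}) (hgen : GenStmt.{u}) {ϖ : R} (hϖ : Irreducible ϖ) {L : Type u}
    [Field L] [Algebra K L] [FiniteDimensional K L] (y : L) (n : ℕ) (hn : IsUnit (n : R))
    (hy : y ^ n = algebraMap K L (algebraMap R K ϖ)) (hL : IntermediateField.adjoin K {y} = ⊤)
    {C X : Scheme.{u}} {f : C ⟶ Spec (CommRingCat.of K)} {g : C ⟶ X}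
    {p : X ⟶ Spec (CommRingCat.of R)} [IsProper p]
    (hX : IsPullback g f p (Spec.map (CommRingCat.ofHom (algebraMap R K)))) (N : ℕ)
    (hosh : ∀ (Ω : Type u) [Field Ω] [IsSepClosed Ω] (ξ : Spec (CommRingCat.of Ω) ⟶ X),
      p (ξ default) = closedPoint R → OshAt p ϖ N ξ)
    (S T : L ≃ₐ[K] L) (m : ℕ) [NeZero m] (hm : IsUnit (m : R))
    (x : HH (SGA7.bcField L f) (EtCoh.const _ (ZMod m)) 1) :
    hc (SGA7.twistAut L f (T ^ N)) (ZMod m) 1 (hc (SGA7.twistAut L f (S ^ N)) (ZMod m) 1 x - x) =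
      hc (SGA7.twistAut L f (S ^ N)) (ZMod m) 1 x - x := by
  have hg : IsAffineHom g := MorphismProperty.of_isPullback hX.flip
    (inferInstance : IsAffineHom (Spec.map (CommRingCat.ofHom (algebraMap R K))))
  have hf : IsAffineHom (pullback.fst f (Spec.map (CommRingCat.ofHom (algebraMap K L)))) :=
    MorphismProperty.pullback_fst _ _ inferInstance
  have hG : IsAffineHom (pullback.fst f (Spec.map (CommRingCat.ofHom (algebraMap K L))) ≫ g) :=
    MorphismProperty.comp_mem _ _ _ hf hg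
  refine Glob.glob_hc p (pullback.fst f (Spec.map (CommRingCat.ofHom (algebraMap K L))) ≫ g)
    (ZMod m) (SGA7.twistAut L f (S ^ N)) (SGA7.twistAut L f (T ^ N)) ?_ ?_ ?_ ?_ x
  · rw [← Category.assoc, twistAut_fst]
  · rw [← Category.assoc, twistAut_fst]
  · intro Ω _ _ ξ W a b hsq w hw1 hw2 z
    by_cases hξ : p (ξ default) = closedPoint R
    · exact local_closed hloc hϖ y n hn hy hL hX N S m hm 1 le_rfl ξ (hosh Ω ξ hξ) a b hsq w hw1 hw2 z
    · exact local_generic hgen hϖ hX (ZMod m) ξ hξ a b hsq _ _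
  · intro Ω _ _ ξ hξ W a b hsq w hw1 hw2
    refine H0LC.comap_eq_of_hc w (ZMod m) ?_
    intro z
    exact local_closed hloc hϖ y n hn hy hL hX N T m hm 0 (Nat.zero_le _) ξ (hosh Ω ξ hξ) a b hsq w
      hw1 hw2 z

end

end Groth.Agent.Sga7.H744.CoreL
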