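import Groth.Agent.EtpbcB.EdgeLemma

/-!
# The image of the edge map in degree one (abstract form)

For an adjunction `L ⊣ R` with `L` exact and `0 → F → I → Q → 0`, `I` injective: a class
`∂(u) ∈ Ext¹(L A, F)`, `u : L A ⟶ Q`, is in the range of the edge map `Ext¹(A, R F) → Ext¹(L A, F)`
if the adjoint `A ⟶ R Q` of `u` dies in the cokernel of `R I ⟶ R Q`.
-/

set_option autoImplicit false

universe w w' v v' u u'

open CategoryTheory CategoryTheory.Limits CategoryTheory.Abelian
open Groth.Agent.EtpbcB.EdgeLemma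

namespace Groth.Agent.Sga7.H744.EdgeAbs

variable {C : Type u} [Category.{v} C] [Abelian C] [HasExt.{w} C]
variable {D : Type u'} [Category.{v'} D] [Abelian D] [HasExt.{w'} D]
variable {L : C ⥤ D} {R : D ⥤ C} [L.Additive] [PreservesFiniteLimits L] [PreservesFiniteColimits L]
variable (adj : L ⊣ R)
variable [R.Additive] [PreservesFiniteLimits R] {S : ShortComplex D} (hS : S.ShortExact)

omit [HasExt.{w} C] [HasExt.{w'} D] in
include hS in
theorem factor {A : C} (g : A ⟶ R.obj S.X₃) (hg : g ≫ cokernel.π (R.map S.g) = 0) :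
    ∃ e : A ⟶ Bc R S, e ≫ kap R S = g := by
  have hK := shortExact_K (R := R) hS
  have hm : Mono (kap R S) := mono_kap (R := R) hS
  have h1 : R.map S.g ≫ cokernel.π (kap R S) = 0 := by
    rw [← π_kap, Category.assoc, cokernel.condition, comp_zero]
  have h2 : g ≫ cokernel.π (kap R S) = 0 := by
    rw [← cokernel.π_desc (R.map S.g) (cokernel.π (kap R S)) h1, ← Category.assoc, hg, zero_comp]
  exact ⟨hK.exact.lift g h2, hK.exact.lift_f g h2⟩

include hS in
theorem mem_range_edge {A : C} (g : A ⟶ R.obj S.X₃) (hg : g ≫ cokernel.π (R.map S.g) = 0) :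
    ∃ z, edge adj A S.X₁ 1 z =
      (Ext.mk₀ ((adj.homEquiv A S.X₃).symm g)).comp hS.extClass (zero_add 1) := by
  obtain ⟨e, rfl⟩ := factor hS g hg
  refine ⟨(Ext.mk₀ e).comp (shortExact_T (R := R) hS).extClass rfl, ?_⟩
  rw [edge_delta adj hS A 0, Ext.mk₀_comp_mk₀, edge_mk₀]

end Groth.Agent.Sga7.H744.EdgeAbs
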