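import Groth.Agent.Sga7.H744.EdgeAbs
import Groth.Agent.Sga7.H744.HcFun
import Groth.Agent.Etcore.StalkLim

/-!
# Classes killed on all strict localizations come from the direct image

`G : Y ⟶ X` qcqs, `F` an abelian sheaf on `Y`, `x ∈ H¹(Y, F)` which dies on `Y ×_X Spec O^sh_{X,ξ}` for
all geometric points `ξ` of `X`: then `x` is in the range of the edge map `H¹(X, G_* F) → H¹(Y, F)`.
-/

set_option autoImplicit false
set_option backward.isDefEq.respectTransparency.types false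
universe u

open CategoryTheory CategoryTheory.Limits AlgebraicGeometry Opposite CategoryTheory.Abelian
open scoped Groth.Agent.Etcore.EtInst

namespace Groth.Agent.Sga7.H744.EdgeKer

open Groth.Agent.Etcore.EtInst Groth.Agent.Etcore.HpullCalc Groth.Agent.EtpbcB.StrictLoc
open Groth.Agent.EtpbcB Groth.Agent.Etcore.SecPull
open Groth.Agent.Sga7.H744.HcFun (preserves_pull)

variable {X Y : Scheme.{u}}

theorem bcTop_hom_ext (G : Y ⟶ X) {W : Scheme.{u}} (a : W ⟶ Y) {T : W.Etale}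
    (m m' : T ⟶ (EtCoh.bc a).obj ((EtCoh.bc G).obj (EtCoh.top X))) : m = m' :=
  (IsTerminal.isTerminalObj (EtCoh.bc a) _
    (IsTerminal.isTerminalObj (EtCoh.bc G) _ (EtCore.topIsTerminal X))).hom_ext m m'

/-- The germ of a global section of `G_* Q`, in terms of `Γ(W, a⁻¹ Q)`. -/
theorem cmp_germ (G : Y ⟶ X) {Ω : Type u} [Field Ω] [IsSepClosed Ω]
    (ξ : Spec (CommRingCat.of Ω) ⟶ X) {W : Scheme.{u}} {a : W ⟶ Y} {b : W ⟶ Spec (Osh ξ)}
    (h : IsPullback a b G (toBase ξ)) (Q : EtCoh.Ab Y)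
    (σ : EtCoh.sect ((EtCoh.push G).obj Q) (EtCoh.top X)) (hl : ξ ≫ (EtCoh.top X).hom = ξ) :
    Etcore.StalkLim.cmp G ξ h Q (Big.germ ((EtCoh.push G).obj Q) (U := EtCoh.top X) ξ hl σ) =
      (unitSec a Q).hom (Q.obj.map (EtCore.bcTopIso G).inv.op σ) := by
  let i := i₀ ξ
  let m : (D ξ).obj i ⟶ EtCoh.top X := (EtCore.topIsTerminal X).from _
  have h1 : Big.germ ((EtCoh.push G).obj Q) (U := EtCoh.top X) ξ hl σ =
      (Etcore.StalkLim.coconeP ξ ((EtCoh.push G).obj Q).obj).ι.app (op i)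
        (((EtCoh.push G).obj Q).obj.map m.op σ) := by
    refine (Big.germ_res' ((EtCoh.push G).obj Q) m (lft ξ i) (lft_hom ξ i) ξ hl ?_ σ).symm
    have := Big.et_w m
    have h2 : m.left = ((D ξ).obj i).hom := by
      rw [← this]
      exact (Category.comp_id _).symm
    rw [h2]
    exact lft_hom ξ i
  rw [h1]
  have h2 := ConcreteCategory.congr_hom (Etcore.StalkLim.ι_cmp G ξ h Q i)
    (((EtCoh.push G).obj Q).obj.map m.op σ)
  refine h2.trans ?_
  have h3 := ConcreteCategory.congr_hom (secPull_postcomp a Q (Etcore.StalkLim.rmap G ξ h i)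
    ((EtCoh.bc G).map m)) σ
  refine h3.trans ?_
  have h4 := ConcreteCategory.congr_hom (secPull_postcomp a Q (EtCore.bcTopIso a).inv
    (EtCore.bcTopIso G).inv) σ
  refine Eq.trans ?_ h4.symm
  exact congrArg (fun m => (secPull a Q (V := (EtCoh.bc G).obj (EtCoh.top X)) m).hom σ)
    (bcTop_hom_ext G a _ _)

theorem stalk_comp_zero {A B C : EtCoh.Ab X} (f : A ⟶ B) (g : B ⟶ C) (h : f ≫ g = 0) {Ω : Type u}
    [Field Ω] [IsSepClosed Ω] (ξ : Spec (CommRingCat.of Ω) ⟶ X) (j : (EtCoh.stalk ξ).obj A) :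
    (EtCoh.stalk ξ).map g ((EtCoh.stalk ξ).map f j) = 0 := by
  have h2 : (EtCoh.stalk ξ).map f ≫ (EtCoh.stalk ξ).map g = 0 := by
    rw [← Functor.map_comp, h, Functor.map_zero]
  exact ConcreteCategory.congr_hom h2 j

/-- A global section of `G_* Q` which lifts on all strict localizations dies in the cokernel. -/
theorem section_eq_zero (G : Y ⟶ X) [QuasiCompact G] [QuasiSeparated G] {I Q : EtCoh.Ab Y} (p : I ⟶ Q)
    {c : EtCoh.Ab X} (π : (EtCoh.push G).obj Q ⟶ c) (hπ : (EtCoh.push G).map p ≫ π = 0)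
    (σ : EtCoh.sect ((EtCoh.push G).obj Q) (EtCoh.top X))
    (H : ∀ (Ω : Type u) [Field Ω] [IsSepClosed Ω] (ξ : Spec (CommRingCat.of Ω) ⟶ X)
      (W : Scheme.{u}) (a : W ⟶ Y) (b : W ⟶ Spec (Osh ξ)) (_ : IsPullback a b G (toBase ξ)),
      ∃ i : EtCoh.sect ((EtCoh.pull a).obj I) (EtCoh.top W),
        ((EtCoh.pull a).map p).hom.app (op (EtCoh.top W)) i =
          (unitSec a Q).hom (Q.obj.map (EtCore.bcTopIso G).inv.op σ)) :
    π.hom.app (op (EtCoh.top X)) σ = 0 := by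
  apply FamSec.fam_ext
  ext Ω _ _ l ξ hl
  have hl' : l = ξ := by rw [← hl]; exact (Category.comp_id _).symm
  subst hl'
  rw [Big.fam_apply, Big.fam_apply]
  have hsq : IsPullback (pullback.fst G (toBase l)) (pullback.snd G (toBase l)) G (toBase l) :=
    IsPullback.of_hasPullback _ _
  obtain ⟨i, hi⟩ := H Ω l _ _ _ hsq
  obtain ⟨j, hj⟩ := Etcore.StalkLim.cmp_surjective G l hsq I i
  have h1 : (EtCoh.stalk l).map ((EtCoh.push G).map p) j =
      Big.germ ((EtCoh.push G).obj Q) (U := EtCoh.top X) l hl σ := by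
    apply Etcore.StalkLim.cmp_injective G l hsq Q
    rw [cmp_germ G l hsq Q σ hl, ← hi, ← hj]
    exact ConcreteCategory.congr_hom (Etcore.StalkLim.cmp_naturality G l hsq p) j
  rw [map_zero, ← Big.stk_map_germ, ← h1]
  exact stalk_comp_zero _ _ hπ l j

theorem unitSec_counit (G : Y ⟶ X) (Q : EtCoh.Ab Y) :
    unitSec G ((EtCoh.push G).obj Q) ≫ (EtCore.gsec Y).map ((EtCoh.pullPushAdj G).counit.app Q) =
      (EtCore.pushGsecIso G).hom.app Q := by
  have h1 := (EtCore.pushGsecIso G).hom.naturality ((EtCoh.pullPushAdj G).counit.app Q)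
  have h2 := (EtCoh.pullPushAdj G).right_triangle_components Q
  rw [unitSec, Category.assoc]
  refine (congrArg (fun t => (EtCore.gsec X).map ((EtCoh.pullPushAdj G).unit.app
    ((EtCoh.push G).obj Q)) ≫ t) h1.symm).trans ?_
  refine (Category.assoc _ _ _).symm.trans ?_
  have h3 : (EtCore.gsec X).map ((EtCoh.pullPushAdj G).unit.app ((EtCoh.push G).obj Q)) ≫
      (EtCoh.push G ⋙ EtCore.gsec X).map ((EtCoh.pullPushAdj G).counit.app Q) = 𝟙 _ := by
    have h4 := (EtCore.gsec X).map_comp ((EtCoh.pullPushAdj G).unit.app ((EtCoh.push G).obj Q))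
      ((EtCoh.push G).map ((EtCoh.pullPushAdj G).counit.app Q))
    rw [h2] at h4
    exact h4.symm.trans ((EtCore.gsec X).map_id ((EtCoh.push G).obj Q))
  rw [h3]
  exact Category.id_comp _

/-- Global sections of `G_* Q` as global sections of `Q`. -/
theorem H0_push (G : Y ⟶ X) (Q : EtCoh.Ab Y) (g : EtCoh.const X ℤ ⟶ (EtCoh.push G).obj Q) :
    H0 Y Q (Ext.mk₀ ((EtCore.pullConst G ℤ).inv ≫ ((EtCoh.pullPushAdj G).homEquiv _ _).symm g)) =
      Q.obj.map (EtCore.bcTopIso G).inv.op (H0 X _ (Ext.mk₀ g)) := by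
  rw [H0_mk₀, H0_mk₀, Adjunction.homEquiv_counit, ← Category.assoc,
    Adjunction.homEquiv_naturality_right]
  have h := constAdj_homEquiv_pullConstIso_inv G (AddCommGrpCat.of (ULift.{u+1} ℤ)) g
  have h' : (EtCore.constAdj Y).homEquiv _ _ ((EtCore.pullConst G ℤ).inv ≫ (EtCoh.pull G).map g) =
    (EtCore.constAdj X).homEquiv _ _ g ≫ unitSec G ((EtCoh.push G).obj Q) := h
  rw [h', Category.assoc, unitSec_counit]
  rfl

variable (G : Y ⟶ X)

/-- **Lemma E**: classes killed on all strict localizations come from the direct image. -/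
theorem exists_edge [QuasiCompact G] [QuasiSeparated G] (F : EtCoh.Ab Y) (x : HH Y F 1)
    (H : ∀ (Ω : Type u) [Field Ω] [IsSepClosed Ω] (ξ : Spec (CommRingCat.of Ω) ⟶ X)
      (W : Scheme.{u}) (a : W ⟶ Y) (b : W ⟶ Spec (Osh ξ)) (_ : IsPullback a b G (toBase ξ)),
      hp a F 1 x = 0) :
    ∃ z : HH X ((EtCoh.push G).obj F) 1,
      HHmap ((EtCoh.pullPushAdj G).counit.app F) 1 (hp G _ 1 z) = x := by
  let A := EtCoh.const X ℤ
  let I : InjectivePresentation F := Classical.arbitrary _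
  let S := ShortComplex.mk _ _ (cokernel.condition I.f)
  have hI : Injective S.X₂ := I.injective
  have hS : S.ShortExact := { exact := ShortComplex.exact_cokernel I.f }
  let y : Ext ((EtCoh.pull G).obj A) S.X₁ 1 :=
    (Ext.mk₀ (EtCore.pullConst G ℤ).hom).comp x (zero_add 1)
  have hy : (Ext.mk₀ (EtCore.pullConst G ℤ).inv).comp y (zero_add 1) = x := by
    rw [← Ext.comp_assoc_of_second_deg_zero, Ext.mk₀_comp_mk₀, Iso.inv_hom_id, Ext.mk₀_id_comp]
  obtain ⟨u0, hu0⟩ := Ext.covariant_sequence_exact₁ ((EtCoh.pull G).obj A) hS y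
    (Ext.eq_zero_of_injective _) (rfl : 0 + 1 = 1)
  obtain ⟨v, rfl⟩ := (Ext.mk₀_bijective _ _).2 u0
  obtain ⟨g, rfl⟩ := ((EtCoh.pullPushAdj G).homEquiv A S.X₃).symm.surjective v
  have hx : (Ext.mk₀ ((EtCore.pullConst G ℤ).inv ≫
      ((EtCoh.pullPushAdj G).homEquiv _ _).symm g)).comp hS.extClass (zero_add 1) = x := by
    rw [← hy, ← hu0, ← Ext.mk₀_comp_mk₀, Ext.comp_assoc_of_second_deg_zero]
  have hg : g ≫ cokernel.π ((EtCoh.push G).map S.g) = 0 := by
    apply (Ext.mk₀_bijective _ _).1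
    apply (H0 X (cokernel ((EtCoh.push G).map S.g))).injective
    rw [← Ext.mk₀_comp_mk₀]
    have h1 := H0_map (cokernel.π ((EtCoh.push G).map S.g)) (Ext.mk₀ g)
    rw [HHmap_apply] at h1
    rw [h1, Ext.mk₀_zero, map_zero]
    refine section_eq_zero G S.g _ (cokernel.condition _) _ ?_
    intro Ω _ _ ξ W a b hsq
    have h2 := H Ω ξ W a b hsq
    rw [← hx] at h2
    have h3 := hp_extClass a hS (rfl : 0 + 1 = 1) (Ext.mk₀ ((EtCore.pullConst G ℤ).inv ≫
      ((EtCoh.pullPushAdj G).homEquiv _ _).symm g))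
    have h4 := h3.symm.trans h2
    obtain ⟨i', hi'⟩ := Ext.covariant_sequence_exact₃ (EtCoh.const W ℤ)
      (hS.map_of_exact (EtCoh.pull a)) _ (rfl : 0 + 1 = 1) h4
    refine ⟨H0 W _ i', ?_⟩
    have h5 := H0_map ((EtCoh.pull a).map S.g) i'
    refine h5.symm.trans ?_
    have h6 : HHmap ((EtCoh.pull a).map S.g) 0 i' = hp a S.X₃ 0 (Ext.mk₀
      ((EtCore.pullConst G ℤ).inv ≫ ((EtCoh.pullPushAdj G).homEquiv _ _).symm g)) := hi'
    rw [h6, hp_zero, H0_push]
  obtain ⟨z, hz⟩ := EdgeAbs.mem_range_edge (EtCoh.pullPushAdj G) hS g hg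
  refine ⟨z, ?_⟩
  rw [← hy, ← hu0, ← hz, EdgeLemma.edge_apply, HHmap_apply, hp_apply]
  exact Ext.comp_assoc_of_third_deg_zero _ _ _ _

end Groth.Agent.Sga7.H744.EdgeKer
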