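import Groth.Agent.Sga7.H744.LCConst
import Groth.Agent.EtpbcB.Big

/-!
# Degree zero: `hc w M 0` is composition of locally constant functions with `w`
-/

set_option autoImplicit false
set_option backward.isDefEq.respectTransparency.types false
universe u

open CategoryTheory CategoryTheory.Limits AlgebraicGeometry Opposite CategoryTheory.Abelian
open scoped Groth.Agent.Etcore.EtInst

namespace Groth.Agent.Sga7.H744.H0LC

open Groth.Agent.Etcore.EtInst Groth.Agent.Etcore.HpullCalc Groth.Agent.Sga4B.ConstLC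
open Groth.Agent.Sga7.H744.HcFun Groth.Agent.Sga7.H744.LCConst
open Groth.Agent.EtpbcB

variable {X Y : Scheme.{u}}

theorem bcTopIso_inv_fst (f : X ⟶ Y) :
    (EtCore.bcTopIso f).inv.left ≫ Big.bcFst f (EtCoh.top Y) = f := by
  have h1 : Big.bcFst f (EtCoh.top Y) = ((EtCoh.bc f).obj (EtCoh.top Y)).hom ≫ f := by
    refine (Category.comp_id _).symm.trans ?_
    exact Big.bc_condition f (EtCoh.top Y)
  have h2 : (EtCore.bcTopIso f).inv.left ≫ ((EtCoh.bc f).obj (EtCoh.top Y)).hom = 𝟙 X :=
    Big.et_w (EtCore.bcTopIso f).inv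
  refine (congrArg ((EtCore.bcTopIso f).inv.left ≫ ·) h1).trans ?_
  refine (Category.assoc _ _ _).symm.trans ?_
  exact (congrArg (· ≫ f) h2).trans (Category.id_comp f)

theorem unitSec_LCpull_apply (f : X ⟶ Y) (A : Type (u + 1)) [AddCommGroup A]
    (g : LocallyConstant Y A) :
    (LCpull f A).hom.app (op (EtCoh.top X)) ((unitSec f (LC Y A)).hom g) =
      LocallyConstant.comap (cmap f) g := by
  have h1 := (EtCore.pushGsecIso f).hom.naturality (LCpull f A)
  have h2 := congrArg (fun t => t.hom.app (op (EtCoh.top Y))) (unit_LCpull f A)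
  have h3 : unitSec f (LC Y A) ≫ (EtCore.gsec X).map (LCpull f A) =
      (LCres f A).hom.app (op (EtCoh.top Y)) ≫ (EtCore.pushGsecIso f).hom.app (LC X A) := by
    rw [unitSec, Category.assoc]
    refine (congrArg (fun t => (EtCore.gsec Y).map ((EtCoh.pullPushAdj f).unit.app
      (LC Y A)) ≫ t) h1.symm).trans ?_
    refine (Category.assoc _ _ _).symm.trans ?_
    exact congrArg (· ≫ (EtCore.pushGsecIso f).hom.app (LC X A)) h2
  have h4 := ConcreteCategory.congr_hom h3 g
  refine h4.trans ?_
  have h5 : ∀ k : X ⟶ Y, k = f → LocallyConstant.comap (cmap k) g =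
      LocallyConstant.comap (cmap f) g := by
    rintro _ rfl
    rfl
  exact h5 _ (bcTopIso_inv_fst f)

theorem H0_lcm (f : X ⟶ Y) (A : Type (u + 1)) [AddCommGroup A] (x : HH Y (LC Y A) 0) :
    H0 X (LC X A) (lcm f A 0 x) =
      LocallyConstant.comap (Y := Y) (cmap f) (H0 Y (LC Y A) x) := by
  rw [lcm_apply, H0_map, hp_zero]
  exact unitSec_LCpull_apply f A _

/-- If `w` acts trivially on `H⁰(W, M)`, it acts trivially on locally constant functions. -/
theorem comap_eq_of_hc (w : X ⟶ X) (M : Type) [AddCommGroup M]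
    (h : ∀ y : HH X (EtCoh.const X M) 0, hc w M 0 y = y)
    (g : LocallyConstant X (ULift.{u + 1} M)) : LocallyConstant.comap (cmap w) g = g := by
  obtain ⟨x, hx⟩ := (H0 X (LC X (ULift.{u + 1} M))).surjective g
  obtain ⟨y, rfl⟩ := (HHmap_bijective (constIso X M).hom 0).2 x
  have h1 := H0_lcm w (ULift.{u + 1} M) (HHmap (constIso X M).hom 0 y)
  rw [lcm_constIso, h y, hx] at h1
  exact h1.symm

/-- If `w` acts trivially on locally constant functions, it acts trivially on `H⁰(W, M)`. -/
theorem hc_eq_of_comap (w : X ⟶ X) (M : Type) [AddCommGroup M]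
    (h : ∀ g : LocallyConstant X (ULift.{u + 1} M), LocallyConstant.comap (cmap w) g = g)
    (y : HH X (EtCoh.const X M) 0) : hc w M 0 y = y := by
  apply (HHmap_bijective (constIso X M).hom 0).1
  apply (H0 X (LC X (ULift.{u + 1} M))).injective
  rw [← lcm_constIso, H0_lcm]
  exact h _

end Groth.Agent.Sga7.H744.H0LC
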