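import Groth.Agent.Sga7.H744.GlobAux
import Groth.Agent.Sga7.H744.H0LC
import Groth.Agent.S3095

/-!
# The global step of the local monodromy theorem for curves

`glob_hc`: `A` henselian local, `p : X ⟶ Spec A` proper, `G : Y ⟶ X` qcqs, `M` finite, `s, t : Y ⟶ Y` over
`X`.  If `s` acts trivially on `H¹` of all strict localizations `Y ×_X Spec O^sh_{X,ξ}` and `t` acts
trivially on the locally constant functions of those at the geometric points of the closed fibre, then
`(t - 1)(s - 1) = 0` on `H¹(Y, M)`.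
-/

set_option autoImplicit false
set_option backward.isDefEq.respectTransparency.types false
universe u

open CategoryTheory CategoryTheory.Limits AlgebraicGeometry Opposite CategoryTheory.Abelian
open scoped Groth.Agent.Etcore.EtInst

namespace Groth.Agent.Sga7.H744.Glob

open Groth.Agent.Etcore.EtInst Groth.Agent.Etcore.HpullCalc Groth.Agent.Sga4B.ConstLC
open Groth.Agent.Sga7.H744.HcFun Groth.Agent.Sga7.H744.GlobAux Groth.Agent.Sga7.H744.H0LC
open Groth.Agent.EtpbcB.StrictLoc

theorem closedFibre_pt {A : Type u} [CommRing A] [IsLocalRing A] {X : Scheme.{u}}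
    (p : X ⟶ Spec (CommRingCat.of A)) (x : ↑(pullback p (Spec.map (CommRingCat.ofHom
      (IsLocalRing.residue A))))) :
    p ((pullback.fst p (Spec.map (CommRingCat.ofHom (IsLocalRing.residue A)))) x) =
      IsLocalRing.closedPoint A := by
  have h1 := congrArg (fun k => k x) (pullback.condition (f := p)
    (g := Spec.map (CommRingCat.ofHom (IsLocalRing.residue A))))
  dsimp only at h1
  rw [Scheme.Hom.comp_apply, Scheme.Hom.comp_apply] at h1
  rw [h1]
  exact IsLocalRing.PrimeSpectrum.comap_residue _ _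

theorem glob_hc {A : Type u} [CommRing A] [HenselianLocalRing A] {X Y : Scheme.{u}}
    (p : X ⟶ Spec (CommRingCat.of A)) [IsProper p] (G : Y ⟶ X) [QuasiCompact G] [QuasiSeparated G]
    (M : Type) [AddCommGroup M] [Finite M] (s t : Y ⟶ Y) (hs : s ≫ G = G) (ht : t ≫ G = G)
    (h1 : ∀ (Ω : Type u) [Field Ω] [IsSepClosed Ω] (ξ : Spec (CommRingCat.of Ω) ⟶ X)
      (W : Scheme.{u}) (a : W ⟶ Y) (b : W ⟶ Spec (Osh ξ)) (_ : IsPullback a b G (toBase ξ))
      (w : W ⟶ W) (_ : w ≫ a = a ≫ s) (_ : w ≫ b = b) (y : HH W (EtCoh.const W M) 1),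
      hc w M 1 y = y)
    (h0 : ∀ (Ω : Type u) [Field Ω] [IsSepClosed Ω] (ξ : Spec (CommRingCat.of Ω) ⟶ X)
      (_ : p (ξ default) = IsLocalRing.closedPoint A)
      (W : Scheme.{u}) (a : W ⟶ Y) (b : W ⟶ Spec (Osh ξ)) (_ : IsPullback a b G (toBase ξ))
      (w : W ⟶ W) (_ : w ≫ a = a ≫ t) (_ : w ≫ b = b)
      (g : LocallyConstant W (ULift.{u + 1} M)), LocallyConstant.comap (cmap w) g = g)
    (x : HH Y (EtCoh.const Y M) 1) :
    hc t M 1 (hc s M 1 x - x) = hc s M 1 x - x := by
  refine glob_aux (pullback.fst p (Spec.map (CommRingCat.ofHom (IsLocalRing.residue A)))) G s t hs ht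
    M ?_ h1 ?_ x
  · exact ((Etcore.HpullCalc.bijective_Hpull_iff _ _ 1).1
      (Groth.Agent.S3095.result A X p _ (isTorsion_push_LC G (ULift.{u + 1} M)) 1)).1
  · intro Ω _ _ ξ W a b hsq w hw1 hw2 g
    refine h0 Ω (ξ ≫ pullback.fst p _) ?_ W a b hsq w hw1 hw2 g
    rw [Scheme.Hom.comp_apply]
    exact closedFibre_pt p _

end Groth.Agent.Sga7.H744.Glob
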