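import Groth.Agent.Sga7.H744.RhoLC
import Groth.Agent.Sga7.H744.EdgeKer

/-!
# The global step, with the proper base change input as a hypothesis

`G : Y ⟶ X` qcqs, `s, t : Y ⟶ Y` over `X`, `i : X₀ ⟶ X` such that `H¹(X, F) → H¹(X₀, i⁻¹F)` is injective
for torsion `F`.  If `s` acts trivially on `H¹` of all strict localizations of `G` and `t` acts trivially
on the locally constant functions of those at points of `X₀`, then `(t - 1)(s - 1) = 0` on `H¹(Y, M)`.
-/

set_option autoImplicit false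
set_option backward.isDefEq.respectTransparency.types false
universe u

open CategoryTheory CategoryTheory.Limits AlgebraicGeometry Opposite CategoryTheory.Abelian
open scoped Groth.Agent.Etcore.EtInst

namespace Groth.Agent.Sga7.H744.GlobAux

open Groth.Agent.Etcore.EtInst Groth.Agent.Etcore.HpullCalc Groth.Agent.Sga4B.ConstLC
open Groth.Agent.Sga7.H744.HcFun Groth.Agent.Sga7.H744.Rho Groth.Agent.Sga7.H744.LCConst
open Groth.Agent.Sga7.H744.RhoLC
open Groth.Agent.EtpbcB.StrictLoc Groth.Agent.EtpbcB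

variable {X Y X₀ : Scheme.{u}}

/-- Morphisms of sheaves which agree on all stalks are equal. -/
theorem hom_eq_of_stalks {F F' : EtCoh.Ab X} (α β : F ⟶ F')
    (h : ∀ (Ω : Type u) [Field Ω] [IsSepClosed Ω] (ξ : Spec (CommRingCat.of Ω) ⟶ X)
      (j : (EtCoh.stalk ξ).obj F), (EtCoh.stalk ξ).map α j = (EtCoh.stalk ξ).map β j) : α = β := by
  have key : ∀ (U : X.Etale) (σ : EtCoh.sect F U), α.hom.app (op U) σ = β.hom.app (op U) σ := by
    intro U σ
    apply FamSec.fam_ext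
    ext Ω _ _ l ξ hl
    rw [Big.fam_apply, Big.fam_apply, ← Big.stk_map_germ, ← Big.stk_map_germ]
    exact h Ω ξ _
  apply Sheaf.hom_ext
  apply NatTrans.ext
  funext U
  exact ConcreteCategory.hom_ext _ _ (fun σ => key U.unop σ)

/-- The pullback of an endomorphism which is the identity on the stalks at the points of `X₀`. -/
theorem pull_eq_id (i : X₀ ⟶ X) {F : EtCoh.Ab X} (α : F ⟶ F)
    (h : ∀ (Ω : Type u) [Field Ω] [IsSepClosed Ω] (ξ : Spec (CommRingCat.of Ω) ⟶ X₀)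
      (j : (EtCoh.stalk (ξ ≫ i)).obj F), (EtCoh.stalk (ξ ≫ i)).map α j = j) :
    (EtCoh.pull i).map α = 𝟙 _ := by
  apply hom_eq_of_stalks
  intro Ω _ _ ξ j
  let e := Etbase.StalkPull.stalkPullIso i ξ
  obtain ⟨j', rfl⟩ : ∃ j', e.hom.app F j' = j :=
    ⟨e.inv.app F j, ConcreteCategory.congr_hom (e.inv_hom_id_app F) j⟩
  have h1 := ConcreteCategory.congr_hom (e.hom.naturality α) j'
  have h2 : (EtCoh.stalk ξ).map ((EtCoh.pull i).map α) (e.hom.app F j') =
      e.hom.app F ((EtCoh.stalk (ξ ≫ i)).map α j') := h1.symm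
  rw [h2, h Ω ξ j', CategoryTheory.Functor.map_id]
  rfl

theorem isTorsion_push_LC (G : Y ⟶ X) (A : Type (u + 1)) [AddCommGroup A] [Finite A] :
    EtCoh.IsTorsion ((EtCoh.push G).obj (LC Y A)) := by
  intro U s x
  refine ⟨U, 𝟙 U, ⟨x, rfl⟩, ?_⟩
  rw [isOfFinAddOrder_iff_nsmul_eq_zero]
  refine ⟨Nat.card A, Nat.card_pos, ?_⟩
  let s' : LocallyConstant ((EtCoh.bc G).obj U).left A :=
    ((EtCoh.push G).obj (LC Y A)).obj.map (𝟙 U : U ⟶ U).op s
  have h : (Nat.card A) • s' = 0 := by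
    apply LocallyConstant.ext
    intro y
    change (Nat.card A) • (s' y) = 0
    exact card_nsmul_eq_zero'
  exact h

/-- `t` acts trivially on the classes coming from `G_*`. -/
theorem lcm_eG (i : X₀ ⟶ X) (G : Y ⟶ X) [QuasiCompact G] (t : Y ⟶ Y) (e : t ≫ G = G)
    (A : Type (u + 1)) [AddCommGroup A] (n : ℕ)
    (hi : Function.Injective (hp i ((EtCoh.push G).obj (LC Y A)) n))
    (ht : ∀ (Ω : Type u) [Field Ω] [IsSepClosed Ω] (ξ : Spec (CommRingCat.of Ω) ⟶ X₀)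
      (W : Scheme.{u}) (a : W ⟶ Y) (b : W ⟶ Spec (Osh (ξ ≫ i)))
      (_ : IsPullback a b G (toBase (ξ ≫ i))) (w : W ⟶ W) (_ : w ≫ a = a ≫ t) (_ : w ≫ b = b)
      (g : LocallyConstant W A), LocallyConstant.comap (cmap w) g = g)
    (z : HH X ((EtCoh.push G).obj (LC Y A)) n) :
    lcm t A n (eG G (LC Y A) n z) = eG G (LC Y A) n z := by
  have h1 : (EtCoh.pull i).map (tauG t G e A) = 𝟙 _ := by
    apply pull_eq_id
    intro Ω _ _ ξ j
    have hsq : IsPullback (pullback.fst G (toBase (ξ ≫ i))) (pullback.snd G (toBase (ξ ≫ i))) G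
      (toBase (ξ ≫ i)) := IsPullback.of_hasPullback _ _
    let w : pullback G (toBase (ξ ≫ i)) ⟶ pullback G (toBase (ξ ≫ i)) :=
      pullback.lift (pullback.fst _ _ ≫ t) (pullback.snd _ _) (by
        rw [Category.assoc, e, pullback.condition])
    have hw1 : w ≫ pullback.fst G (toBase (ξ ≫ i)) = pullback.fst G (toBase (ξ ≫ i)) ≫ t :=
      pullback.lift_fst _ _ _
    have hw2 : w ≫ pullback.snd G (toBase (ξ ≫ i)) = pullback.snd G (toBase (ξ ≫ i)) :=
      pullback.lift_snd _ _ _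
    exact stalk_tauG t G e A (ξ ≫ i) hsq w hw1 hw2 (ht Ω ξ _ _ _ hsq w hw1 hw2) j
  have h2 : HHmap (tauG t G e A) n z = z := by
    apply hi
    rw [hp_map, h1, HHmap_id]
  have h3 := eG_rho t G G e (LCpull t A) n z
  have h4 : HHmap (rho t G G e (LCpull t A)) n z = z := h2
  rw [h4] at h3
  exact h3

/-- **The global step** (the injectivity from proper base change is a hypothesis). -/
theorem glob_aux (i : X₀ ⟶ X) (G : Y ⟶ X) [QuasiCompact G] [QuasiSeparated G] (s t : Y ⟶ Y)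
    (hs : s ≫ G = G) (ht : t ≫ G = G) (M : Type) [AddCommGroup M]
    (hi : Function.Injective (hp i ((EtCoh.push G).obj (LC Y (ULift.{u + 1} M))) 1))
    (h1 : ∀ (Ω : Type u) [Field Ω] [IsSepClosed Ω] (ξ : Spec (CommRingCat.of Ω) ⟶ X)
      (W : Scheme.{u}) (a : W ⟶ Y) (b : W ⟶ Spec (Osh ξ)) (_ : IsPullback a b G (toBase ξ))
      (w : W ⟶ W) (_ : w ≫ a = a ≫ s) (_ : w ≫ b = b) (y : HH W (EtCoh.const W M) 1),
      hc w M 1 y = y)
    (h0 : ∀ (Ω : Type u) [Field Ω] [IsSepClosed Ω] (ξ : Spec (CommRingCat.of Ω) ⟶ X₀)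
      (W : Scheme.{u}) (a : W ⟶ Y) (b : W ⟶ Spec (Osh (ξ ≫ i)))
      (_ : IsPullback a b G (toBase (ξ ≫ i))) (w : W ⟶ W) (_ : w ≫ a = a ≫ t) (_ : w ≫ b = b)
      (g : LocallyConstant W (ULift.{u + 1} M)), LocallyConstant.comap (cmap w) g = g)
    (x : HH Y (EtCoh.const Y M) 1) :
    hc t M 1 (hc s M 1 x - x) = hc s M 1 x - x := by
  have hx : ∀ (Ω : Type u) [Field Ω] [IsSepClosed Ω] (ξ : Spec (CommRingCat.of Ω) ⟶ X)
      (W : Scheme.{u}) (a : W ⟶ Y) (b : W ⟶ Spec (Osh ξ)) (_ : IsPullback a b G (toBase ξ)),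
      hp a (LC Y (ULift.{u + 1} M)) 1 (HHmap (constIso Y M).hom 1 (hc s M 1 x - x)) = 0 := by
    intro Ω _ _ ξ W a b hsq
    let w : W ⟶ W := hsq.lift (a ≫ s) b (by rw [Category.assoc, hs, hsq.w])
    have hw1 : w ≫ a = a ≫ s := hsq.lift_fst _ _ _
    have hw2 : w ≫ b = b := hsq.lift_snd _ _ _
    have h2 : hc a M 1 (hc s M 1 x - x) = 0 := by
      rw [map_sub, hc_comp' (hw1.symm : a ≫ s = w ≫ a), ← hc_comp' (rfl : w ≫ a = w ≫ a),
        h1 Ω ξ W a b hsq w hw1 hw2, sub_self]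
    have h3 : hp a (EtCoh.const Y M) 1 (hc s M 1 x - x) = 0 := by
      apply (HHmap_bijective (EtCore.pullConst a M).hom 1).1
      rw [map_zero]
      exact h2
    rw [hp_map, h3, map_zero]
  obtain ⟨z, hz⟩ := EdgeKer.exists_edge G _ _ hx
  have h4 := lcm_eG i G t ht (ULift.{u + 1} M) 1 hi h0 z
  have h5 : eG G (LC Y (ULift.{u + 1} M)) 1 z =
    HHmap (constIso Y M).hom 1 (hc s M 1 x - x) := hz
  rw [h5, lcm_constIso] at h4
  exact (HHmap_bijective (constIso Y M).hom 1).1 h4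

end Groth.Agent.Sga7.H744.GlobAux
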