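import Groth.Agent.Sga7.H744.HcFun
import Groth.Agent.Sga4B.ConstLC

/-!
# `pullConst` and pullback of locally constant functions

`pull_constIso`: under `constIso : M ≅ LC M`, the isomorphism `pullConst f M : f⁻¹ M_Y ≅ M_X` is
`LCpull f`.
-/

set_option autoImplicit false
set_option backward.isDefEq.respectTransparency.types false
universe u

open CategoryTheory CategoryTheory.Limits AlgebraicGeometry Opposite CategoryTheory.Abelian
open scoped Groth.Agent.Etcore.EtInst

namespace Groth.Agent.Sga7.H744.LCConst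

open Groth.Agent.Etcore.EtInst Groth.Agent.Etcore.HpullCalc Groth.Agent.Sga4B.ConstLC
open Groth.Agent.Sga7.H744.HcFun

variable {X Y : Scheme.{u}}

theorem homEquiv_constToLC (X : Scheme.{u}) (A : Type (u + 1)) [AddCommGroup A] :
    (EtCore.constAdj X).homEquiv _ _ (constToLC X A) = constSec A (EtCoh.top X) := by
  have h1 : (EtCore.constAdj X).homEquiv _ _ (constToLC X A) =
    (constantPresheafAdj AddCommGrpCat.{u+1} (EtCore.topIsTerminal X)).homEquiv _ _
      ((sheafificationAdjunction X.smallEtaleTopology AddCommGrpCat.{u + 1}).homEquiv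
    ((Functor.const X.Etaleᵒᵖ).obj (AddCommGrpCat.of A)) (LC X A) (constToLC X A)) := by
    rfl
  rw [h1, constToLC, Equiv.apply_symm_apply, Adjunction.homEquiv_unit]
  exact Category.id_comp _

theorem unitSec_LCpull (f : X ⟶ Y) (A : Type (u + 1)) [AddCommGroup A] :
    constSec A (EtCoh.top Y) ≫ unitSec f (LC Y A) ≫ (EtCore.gsec X).map (LCpull f A) =
      constSec A (EtCoh.top X) := by
  have h1 := (EtCore.pushGsecIso f).hom.naturality (LCpull f A)
  have h2 := congrArg (fun t => t.hom.app (op (EtCoh.top Y))) (unit_LCpull f A)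
  have h3 : unitSec f (LC Y A) ≫ (EtCore.gsec X).map (LCpull f A) =
      (LCres f A).hom.app (op (EtCoh.top Y)) ≫ (EtCore.pushGsecIso f).hom.app (LC X A) := by
    rw [unitSec, Category.assoc]
    refine (congrArg (fun t => (EtCore.gsec Y).map ((EtCoh.pullPushAdj f).unit.app
      (LC Y A)) ≫ t) h1.symm).trans ?_
    refine (Category.assoc _ _ _).symm.trans ?_
    exact congrArg (· ≫ (EtCore.pushGsecIso f).hom.app (LC X A)) h2
  rw [h3, ← Category.assoc, constSec_LCres]
  rfl

/-- `pullConst` and `LCpull`. -/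
theorem pullConst_inv_LCpull (f : X ⟶ Y) (M : Type) [AddCommGroup M] :
    (EtCore.pullConst f M).inv ≫ (EtCoh.pull f).map (constIso Y M).hom ≫
      LCpull f (ULift.{u + 1} M) = (constIso X M).hom := by
  apply ((EtCore.constAdj X).homEquiv _ _).injective
  have h1 := constAdj_homEquiv_pullConstIso_inv f (AddCommGrpCat.of (ULift.{u+1} M))
    (constIso Y M).hom
  have h2 : (EtCore.constAdj X).homEquiv _ _ ((EtCore.pullConst f M).inv ≫
      (EtCoh.pull f).map (constIso Y M).hom ≫ LCpull f (ULift.{u + 1} M)) =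
      (EtCore.constAdj X).homEquiv _ _ ((EtCore.pullConst f M).inv ≫
      (EtCoh.pull f).map (constIso Y M).hom) ≫ (EtCore.gsec X).map (LCpull f _) := by
    rw [← Category.assoc]
    exact Adjunction.homEquiv_naturality_right _ _ _
  refine h2.trans ?_
  refine (congrArg (· ≫ (EtCore.gsec X).map (LCpull f _)) h1).trans ?_
  refine Eq.trans ?_ (homEquiv_constToLC X (ULift.{u + 1} M)).symm
  refine Eq.trans ?_ (unitSec_LCpull f (ULift.{u + 1} M))
  refine (Category.assoc _ _ _).trans ?_
  exact congrArg (· ≫ unitSec f (LC Y (ULift.{u + 1} M)) ≫ (EtCore.gsec X).map (LCpull f _))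
    (homEquiv_constToLC Y (ULift.{u + 1} M))

theorem pull_constIso (f : X ⟶ Y) (M : Type) [AddCommGroup M] :
    (EtCoh.pull f).map (constIso Y M).hom ≫ LCpull f (ULift.{u + 1} M) =
      (EtCore.pullConst f M).hom ≫ (constIso X M).hom := by
  rw [← pullConst_inv_LCpull f M, Iso.hom_inv_id_assoc]

/-- The pullback map on cohomology with coefficients in `LC`. -/
noncomputable def lcm (f : X ⟶ Y) (A : Type (u + 1)) [AddCommGroup A] (q : ℕ) :
    HH Y (LC Y A) q →+ HH X (LC X A) q :=
  (HHmap (LCpull f A) q).comp (hp f (LC Y A) q)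

theorem lcm_apply (f : X ⟶ Y) (A : Type (u + 1)) [AddCommGroup A] (q : ℕ) (x : HH Y (LC Y A) q) :
    lcm f A q x = HHmap (LCpull f A) q (hp f (LC Y A) q x) := rfl

theorem lcm_constIso (f : X ⟶ Y) (M : Type) [AddCommGroup M] (q : ℕ)
    (x : HH Y (EtCoh.const Y M) q) :
    lcm f (ULift.{u + 1} M) q (HHmap (constIso Y M).hom q x) =
      HHmap (constIso X M).hom q (hc f M q x) := by
  rw [lcm_apply, hc_apply, hp_map, ← HHmap_comp, ← HHmap_comp, pull_constIso]

end Groth.Agent.Sga7.H744.LCConst
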