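import Groth.Agent.Sga7.H744.HcFun

/-!
# Edge maps and morphisms over the base

For `t : Y' ⟶ Y`, `G : Y ⟶ X` and `φ : t⁻¹ F ⟶ F'`:
* `rho0 t G φ : G_* F ⟶ (t ≫ G)_* F'`;
* `eG G F n : H^n(X, G_* F) → H^n(Y, F)` the edge map;
* `eG_rho0`: `φ (t^* (eG z)) = eG (rho0 z)`.
-/

set_option autoImplicit false
set_option backward.isDefEq.respectTransparency.types false

open CategoryTheory CategoryTheory.Limits AlgebraicGeometry Opposite CategoryTheory.Abelian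
open scoped Groth.Agent.Etcore.EtInst

namespace Groth.Agent.Sga7.H744.Rho

section Abstract

universe v₁ v₂ v₃ u₁ u₂ u₃
variable {C : Type u₁} [Category.{v₁} C] {D : Type u₂} [Category.{v₂} D] {E : Type u₃}
  [Category.{v₃} E]

theorem abstract_rho {L : C ⥤ D} {R : D ⥤ C} (adj : L ⊣ R) {Lt : D ⥤ E} {Rt : E ⥤ D}
    (adjt : Lt ⊣ Rt) {L' : C ⥤ E} {R' : E ⥤ C} (adj' : L' ⊣ R') (e : Rt ⋙ R ⟶ R')
    (θ : L' ⟶ L ⋙ Lt)
    (hθ : ∀ P : C, adj'.unit.app P ≫ R'.map (θ.app P) =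
      adj.unit.app P ≫ R.map (adjt.unit.app (L.obj P)) ≫ e.app (Lt.obj (L.obj P)))
    {F : D} {F' : E} (φ : Lt.obj F ⟶ F') :
    L'.map (R.map (adjt.homEquiv _ _ φ) ≫ e.app F') ≫ adj'.counit.app F' =
      θ.app (R.obj F) ≫ Lt.map (adj.counit.app F) ≫ φ := by
  have h0 : L'.map (R.map (adjt.homEquiv _ _ φ) ≫ e.app F') ≫ adj'.counit.app F' =
      (adj'.homEquiv (R.obj F) F').symm (R.map (adjt.homEquiv _ _ φ) ≫ e.app F') :=
    (Adjunction.homEquiv_counit adj' _ _ _).symm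
  have h1 : adj'.homEquiv (R.obj F) F' (θ.app (R.obj F) ≫ Lt.map (adj.counit.app F) ≫ φ) =
      adj'.unit.app (R.obj F) ≫ R'.map (θ.app (R.obj F)) ≫
        R'.map (Lt.map (adj.counit.app F) ≫ φ) := by
    rw [Adjunction.homEquiv_unit, Functor.map_comp]
  have h2 := e.naturality (Lt.map (adj.counit.app F) ≫ φ)
  dsimp at h2
  rw [h0, Equiv.symm_apply_eq, h1, ← Category.assoc (adj'.unit.app (R.obj F)), hθ,
    Category.assoc, Category.assoc, ← h2, ← R.map_comp_assoc, Functor.map_comp Rt,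
    adjt.unit_naturality_assoc, R.map_comp_assoc, adj.right_triangle_components_assoc,
    Adjunction.homEquiv_unit]

end Abstract

universe u

open Groth.Agent.Etcore.EtInst Groth.Agent.Etcore.HpullCalc
open Groth.Agent.Sga7.H744.HcFun (preserves_pull)

variable {X Y Y' : Scheme.{u}}

/-- The edge map `H^n(X, G_* F) → H^n(Y, F)`. -/
noncomputable def eG (G : Y ⟶ X) (F : EtCoh.Ab Y) (n : ℕ) :
    HH X ((EtCoh.push G).obj F) n →+ HH Y F n :=
  (HHmap ((EtCoh.pullPushAdj G).counit.app F) n).comp (hp G _ n)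

theorem eG_apply (G : Y ⟶ X) (F : EtCoh.Ab Y) (n : ℕ) (z : HH X ((EtCoh.push G).obj F) n) :
    eG G F n z = HHmap (F := (EtCoh.pull G).obj ((EtCoh.push G).obj F)) (G := F)
      ((EtCoh.pullPushAdj G).counit.app F) n (hp G _ n z) := rfl

/-- `G_* F ⟶ (t ≫ G)_* F'` attached to `φ : t⁻¹ F ⟶ F'`. -/
noncomputable def rho0 (t : Y' ⟶ Y) (G : Y ⟶ X) {F : EtCoh.Ab Y} {F' : EtCoh.Ab Y'}
    (φ : (EtCoh.pull t).obj F ⟶ F') :
    (EtCoh.push G).obj F ⟶ (EtCoh.push (t ≫ G)).obj F' :=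
  (EtCoh.push G).map ((EtCoh.pullPushAdj t).homEquiv _ _ φ) ≫ (EtCoh.pushComp G t).hom.app F'

theorem pull_rho0_counit (t : Y' ⟶ Y) (G : Y ⟶ X) {F : EtCoh.Ab Y} {F' : EtCoh.Ab Y'}
    (φ : (EtCoh.pull t).obj F ⟶ F') :
    (EtCoh.pull (t ≫ G)).map (rho0 t G φ) ≫ (EtCoh.pullPushAdj (t ≫ G)).counit.app F' =
      (EtCore.pullComp t G).hom.app ((EtCoh.push G).obj F) ≫
        (EtCoh.pull t).map ((EtCoh.pullPushAdj G).counit.app F) ≫ φ :=
  abstract_rho (EtCoh.pullPushAdj G) (EtCoh.pullPushAdj t) (EtCoh.pullPushAdj (t ≫ G))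
    (EtCoh.pushComp G t).hom (EtCore.pullComp t G).hom (fun P => unit_pullComp t G P) φ

theorem eG_rho0 (t : Y' ⟶ Y) (G : Y ⟶ X) {F : EtCoh.Ab Y} {F' : EtCoh.Ab Y'}
    (φ : (EtCoh.pull t).obj F ⟶ F') (n : ℕ) (z : HH X ((EtCoh.push G).obj F) n) :
    HHmap φ n (hp t _ n (eG G F n z)) = eG (t ≫ G) F' n (HHmap (rho0 t G φ) n z) := by
  rw [eG_apply, eG_apply, hp_map, hp_comp, hp_map]
  refine (HHmap_comp _ _ n _).symm.trans ?_
  refine (HHmap_comp _ _ n _).symm.trans ?_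
  refine Eq.trans ?_ (HHmap_comp _ _ n _)
  rw [← pull_rho0_counit]

end Groth.Agent.Sga7.H744.Rho
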