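import Groth.Agent.Sga7.H744.Rho
import Groth.Agent.Sga7.H744.LCConst
import Groth.Agent.Etcore.StalkLim

/-!
# The action on direct images of the constant sheaf

For `t : Y ⟶ Y` over `X` (`t ≫ G = G`), `tauG t G e A : G_* LC_Y ⟶ G_* LC_Y` is composition with `t`
(`tauG_app`); if the lift `w` of `t` to `W = Y ×_X Spec O^sh_{X,ξ}` acts trivially on locally constant
functions, then `tauG` is the identity on the stalk at `ξ`.
-/

set_option autoImplicit false
set_option backward.isDefEq.respectTransparency.types false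
universe u

open CategoryTheory CategoryTheory.Limits AlgebraicGeometry Opposite CategoryTheory.Abelian
open scoped Groth.Agent.Etcore.EtInst

namespace Groth.Agent.Sga7.H744.RhoLC

open Groth.Agent.Etcore.EtInst Groth.Agent.Etcore.HpullCalc Groth.Agent.Sga4B.ConstLC
open Groth.Agent.Sga7.H744.HcFun Groth.Agent.Sga7.H744.Rho Groth.Agent.Sga7.H744.LCConst
open Groth.Agent.EtpbcB.StrictLoc Groth.Agent.EtpbcB

variable {X Y Y' : Scheme.{u}}

/-- `G_* F ⟶ G'_* F'` attached to `φ : t⁻¹ F ⟶ F'`, `t ≫ G = G'`. -/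
noncomputable def rho (t : Y' ⟶ Y) (G : Y ⟶ X) (G' : Y' ⟶ X) (e : t ≫ G = G') {F : EtCoh.Ab Y}
    {F' : EtCoh.Ab Y'} (φ : (EtCoh.pull t).obj F ⟶ F') :
    (EtCoh.push G).obj F ⟶ (EtCoh.push G').obj F' :=
  rho0 t G φ ≫ eqToHom (by rw [e])

theorem eG_rho (t : Y' ⟶ Y) (G : Y ⟶ X) (G' : Y' ⟶ X) (e : t ≫ G = G') {F : EtCoh.Ab Y}
    {F' : EtCoh.Ab Y'} (φ : (EtCoh.pull t).obj F ⟶ F') (n : ℕ)
    (z : HH X ((EtCoh.push G).obj F) n) :
    HHmap φ n (hp t _ n (eG G F n z)) = eG G' F' n (HHmap (rho t G G' e φ) n z) := by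
  subst e
  rw [eG_rho0, rho, eqToHom_refl, Category.comp_id]

theorem rho0_LC (t : Y' ⟶ Y) (G : Y ⟶ X) (A : Type (u + 1)) [AddCommGroup A] (U : X.Etale)
    (tU : ((EtCoh.bc (t ≫ G)).obj U).left ⟶ ((EtCoh.bc G).obj U).left)
    (h1 : tU ≫ Big.bcFst G U = Big.bcFst (t ≫ G) U)
    (h2 : tU ≫ ((EtCoh.bc G).obj U).hom = ((EtCoh.bc (t ≫ G)).obj U).hom ≫ t)
    (s : LocallyConstant ((EtCoh.bc G).obj U).left A) :
    (rho0 t G (LCpull t A)).hom.app (op U) s = LocallyConstant.comap (cmap tU) s := by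
  have h3 : (EtCoh.pullPushAdj t).homEquiv _ _ (LCpull t A) = LCres t A := by
    rw [LCpull, Equiv.apply_symm_apply]
  have h4 : (rho0 t G (LCpull t A)).hom.app (op U) s =
      ((EtCoh.pushComp G t).hom.app (LC Y' A)).hom.app (op U)
        ((LCres t A).hom.app (op ((EtCoh.bc G).obj U)) s) := by
    rw [rho0, h3]
    rfl
  rw [h4, Etcore.SecPull.pushComp_hom_app]
  have h5 : ((Etcore.SecPull.bcComp t G).inv.app U).left ≫
      Big.bcFst t ((EtCoh.bc G).obj U) = tU := by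
    apply Big.hom_ext_bc G
    · rw [h1, Category.assoc]
      exact Etcore.SecPull.bcComp_inv_left t G U
    · rw [h2, Category.assoc, Big.bc_condition, ← Category.assoc]
      exact congrArg (· ≫ t) (Big.et_w ((Etcore.SecPull.bcComp t G).inv.app U))
  subst h5
  rfl

/-- The endomorphism of `G_* LC_Y` given by `t : Y ⟶ Y` over `X`. -/
noncomputable def tauG (t : Y ⟶ Y) (G : Y ⟶ X) (e : t ≫ G = G) (A : Type (u + 1)) [AddCommGroup A] :
    (EtCoh.push G).obj (LC Y A) ⟶ (EtCoh.push G).obj (LC Y A) :=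
  rho t G G e (LCpull t A)

theorem rho_LC (t : Y' ⟶ Y) (G : Y ⟶ X) (G' : Y' ⟶ X) (e : t ≫ G = G') (A : Type (u + 1))
    [AddCommGroup A] (U : X.Etale)
    (tU : ((EtCoh.bc G').obj U).left ⟶ ((EtCoh.bc G).obj U).left)
    (h1 : tU ≫ Big.bcFst G U = Big.bcFst G' U)
    (h2 : tU ≫ ((EtCoh.bc G).obj U).hom = ((EtCoh.bc G').obj U).hom ≫ t)
    (s : LocallyConstant ((EtCoh.bc G).obj U).left A) :
    (rho t G G' e (LCpull t A)).hom.app (op U) s = LocallyConstant.comap (cmap tU) s := by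
  subst e
  rw [rho, eqToHom_refl, Category.comp_id]
  exact rho0_LC t G A U tU h1 h2 s

/-- `tU : Y_U ⟶ Y_U`, the base change of `t`. -/
noncomputable def tU (t : Y ⟶ Y) (G : Y ⟶ X) (e : t ≫ G = G) (U : X.Etale) :
    ((EtCoh.bc G).obj U).left ⟶ ((EtCoh.bc G).obj U).left :=
  pullback.lift (Big.bcFst G U) (((EtCoh.bc G).obj U).hom ≫ t) (by
    rw [Category.assoc, e]
    exact pullback.condition)

theorem tU_fst (t : Y ⟶ Y) (G : Y ⟶ X) (e : t ≫ G = G) (U : X.Etale) :
    tU t G e U ≫ Big.bcFst G U = Big.bcFst G U := pullback.lift_fst _ _ _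

theorem tU_hom (t : Y ⟶ Y) (G : Y ⟶ X) (e : t ≫ G = G) (U : X.Etale) :
    tU t G e U ≫ ((EtCoh.bc G).obj U).hom = ((EtCoh.bc G).obj U).hom ≫ t :=
  pullback.lift_snd _ _ _

theorem tauG_app (t : Y ⟶ Y) (G : Y ⟶ X) (e : t ≫ G = G) (A : Type (u + 1)) [AddCommGroup A]
    (U : X.Etale) (s : LocallyConstant ((EtCoh.bc G).obj U).left A) :
    (tauG t G e A).hom.app (op U) s = LocallyConstant.comap (cmap (tU t G e U)) s :=
  rho_LC t G G e A U (tU t G e U) (tU_fst t G e U) (tU_hom t G e U) s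

theorem legX_tU (t : Y ⟶ Y) (G : Y ⟶ X) (e : t ≫ G = G) {Ω : Type u} [Field Ω] [IsSepClosed Ω]
    (ξ : Spec (CommRingCat.of Ω) ⟶ X) {W : Scheme.{u}} {a : W ⟶ Y} {b : W ⟶ Spec (Osh ξ)}
    (h : IsPullback a b G (toBase ξ)) (w : W ⟶ W) (hw1 : w ≫ a = a ≫ t) (hw2 : w ≫ b = b)
    (i : Idx ξ) :
    legX ξ G h i ≫ tU t G e ((D ξ).obj i) = w ≫ legX ξ G h i := by
  apply Big.hom_ext_bc G
  · rw [Category.assoc, tU_fst, Category.assoc]
    have h1 : legX ξ G h i ≫ Big.bcFst G ((D ξ).obj i) = b ≫ leg ξ i := legX_pr ξ G h i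
    rw [h1, ← Category.assoc, hw2]
  · rw [Category.assoc, tU_hom, Category.assoc, legX_hom, ← Category.assoc, legX_hom, hw1]

/-- If the lift of `t` to `W` acts trivially on locally constant functions, `tauG` is the identity on
the stalk. -/
theorem stalk_tauG (t : Y ⟶ Y) (G : Y ⟶ X) [QuasiCompact G] (e : t ≫ G = G) (A : Type (u + 1))
    [AddCommGroup A] {Ω : Type u} [Field Ω] [IsSepClosed Ω]
    (ξ : Spec (CommRingCat.of Ω) ⟶ X) {W : Scheme.{u}} {a : W ⟶ Y} {b : W ⟶ Spec (Osh ξ)}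
    (h : IsPullback a b G (toBase ξ)) (w : W ⟶ W) (hw1 : w ≫ a = a ≫ t) (hw2 : w ≫ b = b)
    (hw : ∀ g : LocallyConstant W A, LocallyConstant.comap (cmap w) g = g)
    (j : (EtCoh.stalk ξ).obj ((EtCoh.push G).obj (LC Y A))) :
    (EtCoh.stalk ξ).map (tauG t G e A) j = j := by
  obtain ⟨i, s, rfl⟩ := Concrete.isColimit_exists_rep _
    (Etcore.StalkLim.isColimitP ξ ((EtCoh.push G).obj (LC Y A)).obj) j
  let U := (D ξ).obj i.unop
  let s' : LocallyConstant ((EtCoh.bc G).obj U).left A := s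
  have h1 : (EtCoh.stalk ξ).map (tauG t G e A)
      ((Etcore.StalkLim.coconeP ξ ((EtCoh.push G).obj (LC Y A)).obj).ι.app i s) =
      (Etcore.StalkLim.coconeP ξ ((EtCoh.push G).obj (LC Y A)).obj).ι.app i
        (LocallyConstant.comap (cmap (tU t G e U)) s') := by
    have := (Scheme.pointSmallEtale ξ).toPresheafFiber_naturality_apply (tauG t G e A).hom
      U (elt ξ i.unop) s
    refine this.trans ?_
    exact congrArg _ (tauG_app t G e A U s)
  refine h1.trans ?_
  let d : LocallyConstant ((EtCoh.bc G).obj U).left A :=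
    LocallyConstant.comap (cmap (tU t G e U)) s' - s'
  let V : ((DX ξ G).obj i.unop).Opens := ⟨d ⁻¹' {0}, d.isLocallyConstant {0}⟩
  have hV : (coneX ξ G h).π.app i.unop ⁻¹ᵁ V = ⊤ := by
    rw [eq_top_iff]
    intro x _
    change d ((legX ξ G h i.unop) x) = 0
    have h2 : LocallyConstant.comap (cmap (legX ξ G h i.unop)) d = 0 := by
      have h3 : LocallyConstant.comap (cmap (legX ξ G h i.unop))
          (LocallyConstant.comap (cmap (tU t G e U)) s') =
          LocallyConstant.comap (cmap w) (LocallyConstant.comap (cmap (legX ξ G h i.unop)) s') := by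
        have h4 := legX_tU t G e ξ h w hw1 hw2 i.unop
        have h5 : LocallyConstant.comap (cmap (legX ξ G h i.unop ≫ tU t G e U)) s' =
            LocallyConstant.comap (cmap (w ≫ legX ξ G h i.unop)) s' :=
          congrArg (fun q => LocallyConstant.comap (cmap q) s') h4
        exact h5
      rw [hw] at h3
      have h6 : LocallyConstant.comap (cmap (legX ξ G h i.unop)) d =
          LocallyConstant.comap (cmap (legX ξ G h i.unop))
            (LocallyConstant.comap (cmap (tU t G e U)) s') -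
          LocallyConstant.comap (cmap (legX ξ G h i.unop)) s' := rfl
      rw [h6, h3, sub_self]
    exact LocallyConstant.congr_fun h2 x
  obtain ⟨k, g, hg⟩ := exists_map_eq_top (DX ξ G) (coneX ξ G h) (isLimitConeX ξ G h) V hV
  have h7 : ((EtCoh.push G).obj (LC Y A)).obj.map ((D ξ).map g).op d = 0 := by
    apply LocallyConstant.ext
    intro x
    have hx : x ∈ (DX ξ G).map g ⁻¹ᵁ V := by rw [hg]; trivial
    exact hx
  have h8 := ConcreteCategory.congr_hom
    ((Etcore.StalkLim.coconeP ξ ((EtCoh.push G).obj (LC Y A)).obj).w g.op) d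
  have h9 : (Etcore.StalkLim.coconeP ξ ((EtCoh.push G).obj (LC Y A)).obj).ι.app i d = 0 := by
    refine h8.symm.trans ?_
    refine (congrArg ((Etcore.StalkLim.coconeP ξ ((EtCoh.push G).obj (LC Y A)).obj).ι.app
      (op k)) h7).trans ?_
    exact map_zero _
  rw [← sub_eq_zero]
  refine Eq.trans ?_ h9
  exact (map_sub ((Etcore.StalkLim.coconeP ξ ((EtCoh.push G).obj (LC Y A)).obj).ι.app i).hom
    _ _).symm

end Groth.Agent.Sga7.H744.RhoLC
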