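import Groth.Agent.Sga7.H744.RhoLC
import Groth.Agent.Sga7.H744.EdgeKer
import Mathlib.AlgebraicGeometry.Morphisms.UniversallyOpen

/-!
# Transfer for constant coefficients along a Galois covering

`π : Y ⟶ X` surjective and universally open, `H` a finite group acting on `Y` over `X`, transitively on
the fibres of `Y_U → U` for all étale `U → X`.  There is `tr : π_* LC_Y ⟶ LC_X` with
`tr ≫ (LC_X → π_* LC_Y) = ∑ g, g^*`.
-/

set_option autoImplicit false
set_option backward.isDefEq.respectTransparency.types false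
universe u w

open CategoryTheory CategoryTheory.Limits AlgebraicGeometry Opposite CategoryTheory.Abelian
open scoped Groth.Agent.Etcore.EtInst

namespace Groth.Agent.Sga7.H744.Trace

open Groth.Agent.Etcore.EtInst Groth.Agent.Etcore.HpullCalc Groth.Agent.Sga4B.ConstLC
open Groth.Agent.Sga7.H744.HcFun Groth.Agent.Sga7.H744.Rho Groth.Agent.Sga7.H744.LCConst
open Groth.Agent.Sga7.H744.RhoLC
open Groth.Agent.EtpbcB.StrictLoc Groth.Agent.EtpbcB

variable {X Y : Scheme.{u}}

/-- A finite group acting on `Y` over `X`, transitively on the fibres of `Y_U → U`. -/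
structure GalData (π : Y ⟶ X) (H : Type w) [Group H] where
  ρ : H → (Y ⟶ Y)
  hρ : ∀ g, ρ g ≫ π = π
  mul : ∀ g h, ρ (g * h) = ρ g ≫ ρ h
  trans : ∀ (U : X.Etale) (y₁ y₂ : ((EtCoh.bc π).obj U).left),
    Big.bcFst π U y₁ = Big.bcFst π U y₂ → ∃ g, tU (ρ g) π (hρ g) U y₁ = y₂

theorem tU_comp (π : Y ⟶ X) (s t : Y ⟶ Y) (hs : s ≫ π = π) (ht : t ≫ π = π)
    (hst : (s ≫ t) ≫ π = π) (U : X.Etale) :
    tU (s ≫ t) π hst U = tU s π hs U ≫ tU t π ht U := by
  apply Big.hom_ext_bc π
  · rw [tU_fst, Category.assoc, tU_fst, tU_fst]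
  · refine (tU_hom (s ≫ t) π hst U).trans ?_
    refine Eq.trans ?_ (Category.assoc _ _ _).symm
    refine Eq.trans ?_ (congrArg (tU s π hs U ≫ ·) (tU_hom t π ht U)).symm
    refine Eq.trans ?_ (Category.assoc _ _ _)
    refine Eq.trans ?_ (congrArg (· ≫ t) (tU_hom s π hs U)).symm
    exact (Category.assoc _ _ _).symm

theorem tU_congr (π : Y ⟶ X) {s t : Y ⟶ Y} (e : s = t) (hs : s ≫ π = π) (ht : t ≫ π = π)
    (U : X.Etale) : tU s π hs U = tU t π ht U := by
  subst e
  rfl

theorem sect_add {F G : EtCoh.Ab X} (φ ψ : F ⟶ G) (U : X.Etale) (s : EtCoh.sect F U) :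
    (φ + ψ).hom.app (op U) s = φ.hom.app (op U) s + ψ.hom.app (op U) s := rfl

theorem sect_sum {F G : EtCoh.Ab X} {ι : Type w} (T : Finset ι) (φ : ι → (F ⟶ G)) (U : X.Etale)
    (s : EtCoh.sect F U) :
    (∑ i ∈ T, φ i).hom.app (op U) s = ∑ i ∈ T, (φ i).hom.app (op U) s := by
  classical
  induction T using Finset.induction_on with
  | empty => rfl
  | insert i T hi ih => rw [Finset.sum_insert hi, Finset.sum_insert hi, sect_add, ih]

theorem HHmap_sum {F G : EtCoh.Ab X} {ι : Type w} (T : Finset ι) (φ : ι → (F ⟶ G)) (n : ℕ)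
    (z : HH X F n) : HHmap (∑ i ∈ T, φ i) n z = ∑ i ∈ T, HHmap (φ i) n z := by
  classical
  induction T using Finset.induction_on with
  | empty =>
    rw [Finset.sum_empty, Finset.sum_empty, HHmap_apply, Ext.mk₀_zero, Ext.comp_zero]
  | insert i T hi ih =>
    rw [Finset.sum_insert hi, Finset.sum_insert hi, ← ih, HHmap_apply, HHmap_apply, HHmap_apply,
      Ext.mk₀_add, Ext.comp_add]

section

variable {π : Y ⟶ X} {H : Type w} [Group H] [Fintype H] (D : GalData π H) (A : Type (u + 1))
  [AddCommGroup A]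

/-- The norm of a locally constant function on `Y_U`. -/
noncomputable def nrm (U : X.Etale) (s : LocallyConstant ((EtCoh.bc π).obj U).left A) :
    LocallyConstant ((EtCoh.bc π).obj U).left A :=
  ∑ g, LocallyConstant.comap (cmap (tU (D.ρ g) π (D.hρ g) U)) s

theorem nrm_apply (U : X.Etale) (s : LocallyConstant ((EtCoh.bc π).obj U).left A)
    (y : ((EtCoh.bc π).obj U).left) :
    nrm D A U s y = ∑ g, s (tU (D.ρ g) π (D.hρ g) U y) := by
  rw [nrm]
  exact map_sum (LocallyConstant.evalAddMonoidHom y) _ _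

theorem nrm_inv (U : X.Etale) (s : LocallyConstant ((EtCoh.bc π).obj U).left A) (h : H)
    (y : ((EtCoh.bc π).obj U).left) :
    nrm D A U s (tU (D.ρ h) π (D.hρ h) U y) = nrm D A U s y := by
  rw [nrm_apply, nrm_apply]
  refine Fintype.sum_equiv (Equiv.mulLeft h) _ _ ?_
  intro g
  have h1 : tU (D.ρ (h * g)) π (D.hρ (h * g)) U =
      tU (D.ρ h) π (D.hρ h) U ≫ tU (D.ρ g) π (D.hρ g) U := by
    rw [← tU_comp π (D.ρ h) (D.ρ g) (D.hρ h) (D.hρ g) (by rw [Category.assoc, D.hρ, D.hρ])]
    exact tU_congr π (D.mul h g) _ _ U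
  rw [Equiv.coe_mulLeft, h1]
  rfl

theorem nrm_fibre (U : X.Etale) (s : LocallyConstant ((EtCoh.bc π).obj U).left A)
    (y₁ y₂ : ((EtCoh.bc π).obj U).left) (h : Big.bcFst π U y₁ = Big.bcFst π U y₂) :
    nrm D A U s y₁ = nrm D A U s y₂ := by
  obtain ⟨g, rfl⟩ := D.trans U y₁ y₂ h
  exact (nrm_inv D A U s g y₁).symm

theorem surjective_bcFst [Surjective π] (U : X.Etale) :
    Function.Surjective (Big.bcFst π U) := by
  have : Surjective (Big.bcFst π U) :=
    MorphismProperty.of_isPullback (Big.isPullback_bc π U).flip (inferInstance : Surjective π)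
  exact this.surj

theorem isOpenMap_bcFst [UniversallyOpen π] (U : X.Etale) :
    IsOpenMap (Big.bcFst π U) := by
  have : UniversallyOpen (Big.bcFst π U) :=
    MorphismProperty.of_isPullback (Big.isPullback_bc π U).flip (inferInstance : UniversallyOpen π)
  exact Scheme.Hom.isOpenMap _

variable [Surjective π] [UniversallyOpen π]

include D in
theorem exists_desc (U : X.Etale) (s : LocallyConstant ((EtCoh.bc π).obj U).left A) :
    ∃ ψ : LocallyConstant U.left A,
      LocallyConstant.comap (cmap (Big.bcFst π U)) ψ = nrm D A U s := by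
  have hs := surjective_bcFst (π := π) U
  let ψ : U.left → A := fun u => nrm D A U s (Function.surjInv hs u)
  have hψ : ∀ y, ψ (Big.bcFst π U y) = nrm D A U s y := fun y =>
    nrm_fibre D A U s _ _ (Function.surjInv_eq hs _)
  have hq : Topology.IsQuotientMap (Big.bcFst π U) :=
    (isOpenMap_bcFst U).isQuotientMap (Big.bcFst π U).continuous hs
  refine ⟨⟨ψ, fun T => ?_⟩, LocallyConstant.ext hψ⟩
  rw [← hq.isOpen_preimage]
  have h1 : Big.bcFst π U ⁻¹' (ψ ⁻¹' T) = nrm D A U s ⁻¹' T := by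
    ext y
    change ψ (Big.bcFst π U y) ∈ T ↔ nrm D A U s y ∈ T
    rw [hψ]
  rw [h1]
  exact (nrm D A U s).isLocallyConstant T

theorem comap_inj (U : X.Etale) {ψ ψ' : LocallyConstant U.left A}
    (h : LocallyConstant.comap (cmap (Big.bcFst π U)) ψ =
      LocallyConstant.comap (cmap (Big.bcFst π U)) ψ') : ψ = ψ' := by
  apply LocallyConstant.ext
  intro u
  obtain ⟨y, rfl⟩ := surjective_bcFst (π := π) U u
  exact LocallyConstant.congr_fun h y

/-- The transfer on sections. -/
noncomputable def trApp (U : X.Etale) (s : LocallyConstant ((EtCoh.bc π).obj U).left A) :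
    LocallyConstant U.left A := (exists_desc D A U s).choose

theorem trApp_spec (U : X.Etale) (s : LocallyConstant ((EtCoh.bc π).obj U).left A) :
    LocallyConstant.comap (cmap (Big.bcFst π U)) (trApp D A U s) = nrm D A U s :=
  (exists_desc D A U s).choose_spec

theorem trApp_add (U : X.Etale) (s t : LocallyConstant ((EtCoh.bc π).obj U).left A) :
    trApp D A U (s + t) = trApp D A U s + trApp D A U t := by
  apply comap_inj A (π := π) U
  rw [trApp_spec]
  have h1 : LocallyConstant.comap (cmap (Big.bcFst π U)) (trApp D A U s + trApp D A U t) =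
      LocallyConstant.comap (cmap (Big.bcFst π U)) (trApp D A U s) +
      LocallyConstant.comap (cmap (Big.bcFst π U)) (trApp D A U t) := rfl
  rw [h1, trApp_spec, trApp_spec, nrm, nrm, nrm, ← Finset.sum_add_distrib]
  rfl

theorem bc_map_tU (t : Y ⟶ Y) (ht : t ≫ π = π) {U V : X.Etale} (r : V ⟶ U) :
    tU t π ht V ≫ ((EtCoh.bc π).map r).left = ((EtCoh.bc π).map r).left ≫ tU t π ht U := by
  apply Big.hom_ext_bc π
  · rw [Category.assoc, Category.assoc, tU_fst, Big.bc_map_fst, ← Category.assoc, tU_fst]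
  · refine (Category.assoc _ _ _).trans ?_
    refine (congrArg (tU t π ht V ≫ ·) (Big.bc_map_hom π r)).trans ?_
    refine (tU_hom t π ht V).trans ?_
    refine Eq.trans ?_ (Category.assoc _ _ _).symm
    refine Eq.trans ?_ (congrArg (((EtCoh.bc π).map r).left ≫ ·) (tU_hom t π ht U)).symm
    refine Eq.trans ?_ (Category.assoc _ _ _)
    exact (congrArg (· ≫ t) (Big.bc_map_hom π r)).symm

theorem nrm_map {U V : X.Etale} (r : V ⟶ U) (s : LocallyConstant ((EtCoh.bc π).obj U).left A) :
    nrm D A V (LocallyConstant.comap (cmap ((EtCoh.bc π).map r).left) s) =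
      LocallyConstant.comap (cmap ((EtCoh.bc π).map r).left) (nrm D A U s) := by
  apply LocallyConstant.ext
  intro y
  rw [nrm_apply]
  refine Eq.trans ?_ (nrm_apply D A U s _).symm
  refine Finset.sum_congr rfl fun g _ => ?_
  have h := congrArg (fun k => s (k y)) (bc_map_tU (D.ρ g) (D.hρ g) r)
  exact h

theorem trApp_map {U V : X.Etale} (r : V ⟶ U) (s : LocallyConstant ((EtCoh.bc π).obj U).left A) :
    trApp D A V (LocallyConstant.comap (cmap ((EtCoh.bc π).map r).left) s) =
      LocallyConstant.comap (cmap r.left) (trApp D A U s) := by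
  apply comap_inj A (π := π) V
  rw [trApp_spec, nrm_map, ← trApp_spec]
  apply LocallyConstant.ext
  intro y
  have h := congrArg (fun k => trApp D A U s (k y)) (Big.bc_map_fst π r)
  exact h

/-- The transfer `π_* LC_Y ⟶ LC_X`. -/
noncomputable def tr : (EtCoh.push π).obj (LC Y A) ⟶ LC X A where
  hom :=
    { app := fun U => AddCommGrpCat.ofHom (AddMonoidHom.mk' (trApp D A U.unop)
        (trApp_add D A U.unop))
      naturality := by
        intro U V r
        ext s
        exact trApp_map D A r.unop s }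

theorem tr_LCres : tr D A ≫ LCres π A = ∑ g, tauG (D.ρ g) π (D.hρ g) A := by
  apply Sheaf.hom_ext
  apply NatTrans.ext
  funext U
  apply ConcreteCategory.hom_ext
  intro s
  refine Eq.trans ?_ (sect_sum Finset.univ _ U.unop s).symm
  have h1 : ∑ g, (tauG (D.ρ g) π (D.hρ g) A).hom.app (op U.unop) s = nrm D A U.unop s :=
    Finset.sum_congr rfl fun g _ => tauG_app (D.ρ g) π (D.hρ g) A U.unop s
  exact (trApp_spec D A U.unop s).trans h1.symm

end

theorem lcm_eq_eG (π : Y ⟶ X) (A : Type (u + 1)) [AddCommGroup A] (n : ℕ) (a : HH X (LC X A) n) :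
    lcm π A n a = eG π (LC Y A) n (HHmap (LCres π A) n a) := by
  have h1 : LCpull π A = (EtCoh.pull π).map (LCres π A) ≫
      (EtCoh.pullPushAdj π).counit.app (LC Y A) := Adjunction.homEquiv_counit _ _ _ _
  rw [lcm_apply, eG_apply, hp_map, h1]
  exact HHmap_comp _ _ n _

section

variable {π : Y ⟶ X} {H : Type w} [Group H] [Fintype H] (D : GalData π H) [Surjective π]
  [UniversallyOpen π]

theorem lcm_tr (A : Type (u + 1)) [AddCommGroup A] (n : ℕ)
    (z : HH X ((EtCoh.push π).obj (LC Y A)) n) :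
    lcm π A n (HHmap (tr D A) n z) = ∑ g, lcm (D.ρ g) A n (eG π (LC Y A) n z) := by
  rw [lcm_eq_eG, ← HHmap_comp, tr_LCres, HHmap_sum, map_sum]
  refine Finset.sum_congr rfl fun g _ => ?_
  exact (eG_rho (D.ρ g) π π (D.hρ g) (LCpull (D.ρ g) A) n z).symm

include D in
/-- **Transfer**: if the class `c` comes from the direct image, the sum of its translates comes
from `X`. -/
theorem exists_trace (M : Type) [AddCommGroup M] (n : ℕ) (c : HH Y (EtCoh.const Y M) n)
    (hc' : ∃ z, eG π (LC Y (ULift.{u + 1} M)) n z = HHmap (constIso Y M).hom n c) :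
    ∃ a : HH X (EtCoh.const X M) n, hc π M n a = ∑ g, hc (D.ρ g) M n c := by
  obtain ⟨z, hz⟩ := hc'
  obtain ⟨a, ha⟩ := (HHmap_bijective (constIso X M).hom n).2 (HHmap (tr D (ULift.{u + 1} M)) n z)
  refine ⟨a, ?_⟩
  apply (HHmap_bijective (constIso Y M).hom n).1
  rw [← lcm_constIso, ha, lcm_tr, map_sum, hz]
  refine Finset.sum_congr rfl fun g _ => ?_
  exact lcm_constIso (D.ρ g) M n c

end

end Groth.Agent.Sga7.H744.Trace
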